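import Cfsg.Agent.Lib.CliffMax93.Basic
import Cfsg.Agent.Lib.PrimeElusive.SymplType

/-!
Recognising Clifford groups: symplectic-type 2-groups of exponent 4 with centre of order 4.
-/

set_option autoImplicit false
set_option linter.unusedSectionVars false

namespace CfsgLib.CliffSU8

open Matrix Cfsg
open CfsgLib.CliffMax93 (Cliff pg)
open scoped MatrixGroups commutatorElement

variable {ι : Type} [Fintype ι] [DecidableEq ι] {F : Type*} [Field F] [Finite F]

local notation "mt" g:max => ((g : GL ι F) : Matrix ι ι F)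

/-- A symplectic-type group with centre of order four and projective order `n²` is a Clifford group. -/
theorem cliff_of_symplecticType {R : Subgroup (GL ι F)} [Nonempty ι] (h2 : (2 : F) ≠ 0)
    (hn : (Fintype.card ι : F) ≠ 0) (hs : Cfsg.Geo.IsSymplecticTypeGroup 2 R)
    (hi : Cfsg.Geo.ActsAbsolutelyIrreducibly (Cfsg.Geo.matrixSet R))
    (hc : Nat.card R = 4 * Fintype.card ι ^ 2) (hz : Nat.card (Subgroup.center R) = 4) :
    ∃ i : F, Cliff R i := by
  classical
  have hexp : ∀ q : R, q ^ 4 = 1 := fun q => by
    have := Monoid.pow_exponent_eq_one q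
    rw [hs.exponent_eq] at this
    exact this
  have hprops := CfsgLib.SymplecticFour.commutator_props R hs.pGroup hs.cyclic_of_characteristic hexp
  have entry : ∀ (c d : F), c • (1 : Matrix ι ι F) = d • 1 → c = d := fun c d h => by
    have i := Classical.arbitrary ι
    simpa using congrFun (congrFun h i) i
  have hcen : ∀ g : R, g ∈ Subgroup.center R ↔ ∃ c : F, (mt (g : GL ι F)) = c • 1 := fun g =>
    PrimeElusive.SymplType.mem_center_iff hi g
  have hpow : ∀ (g : R) (c : F), (mt (g : GL ι F)) = c • 1 → c ^ 4 = 1 := by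
    intro g c hg
    refine entry _ _ ?_
    have := congrArg (fun u : R => (mt (u : GL ι F))) (hexp g)
    simp only [Subgroup.coe_pow, Units.val_pow_eq_pow_val, OneMemClass.coe_one, Units.val_one] at this
    rw [hg, smul_pow, one_pow] at this
    rw [one_smul]; exact this
  have hsgn : ∀ a ∈ R, ∀ b ∈ R, a * b = b * a ∨ (mt a) * (mt b) = -((mt b) * (mt a)) := by
    intro a ha b hb
    obtain ⟨h1, h1'⟩ := hprops ⟨a, ha⟩ ⟨b, hb⟩
    obtain ⟨c, hcv⟩ := (hcen _).1 h1
    have e : (mt a) * (mt b) = c • ((mt b) * (mt a)) := by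
      have e1 : (a * b : GL ι F) = ((⁅(⟨a, ha⟩ : R), ⟨b, hb⟩⁆ : R) : GL ι F) * (b * a) := by
        simp only [commutatorElement_def, Subgroup.coe_mul, Subgroup.coe_inv]; group
      have := congrArg Units.val e1
      rw [Units.val_mul, Units.val_mul, Units.val_mul, hcv, smul_mul_assoc, one_mul] at this
      exact this
    have hc2 : c ^ 2 = 1 := by
      refine entry _ _ ?_
      have := congrArg (fun u : R => (mt (u : GL ι F))) h1'
      simp only [Subgroup.coe_pow, Units.val_pow_eq_pow_val, OneMemClass.coe_one, Units.val_one] at this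
      rw [hcv, smul_pow, one_pow] at this
      rw [one_smul]; exact this
    rcases sq_eq_one_iff.1 hc2 with rfl | rfl
    · left; exact Units.ext (by rw [Units.val_mul, Units.val_mul]; simpa using e)
    · right; rw [e, neg_one_smul]
  have hsq : ∀ a ∈ R, (mt a) * (mt a) = 1 ∨ (mt a) * (mt a) = -1 := by
    intro a ha
    have hsqc : (⟨a, ha⟩ : R) ^ 2 ∈ Subgroup.center R := by
      rw [Subgroup.mem_center_iff]
      intro x
      refine (commutatorElement_eq_one_iff_mul_comm.mp ?_).symm
      rw [CfsgLib.SymplecticFour.commutator_sq_left (hprops _ x).1, (hprops _ x).2]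
    obtain ⟨c, hcv⟩ := (hcen _).1 hsqc
    have e : (mt a) * (mt a) = c • 1 := by rw [← hcv]; simp [pow_two]
    have hc2 : c ^ 2 = 1 := by
      refine entry _ _ ?_
      have := congrArg (fun u : R => (mt (u : GL ι F))) (hexp ⟨a, ha⟩)
      simp only [Subgroup.coe_pow, Units.val_pow_eq_pow_val, OneMemClass.coe_one, Units.val_one] at this
      rw [show 4 = 2 * 2 from rfl, pow_mul, pow_two, pow_two, e] at this
      rw [one_smul, pow_two]
      simpa [smul_smul] using this
    rcases sq_eq_one_iff.1 hc2 with rfl | rfl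
    · left; rw [e, one_smul]
    · right; rw [e, neg_one_smul]
  -- the fourth root of unity
  have : Finite R := Nat.finite_of_card_ne_zero (by rw [hc]; positivity)
  obtain ⟨g, hg, i, hgi, hii⟩ : ∃ g ∈ R, ∃ i : F, (mt g) = i • 1 ∧ i * i = -1 := by
    by_contra hcon
    push Not at hcon
    have hval : ∀ z : Subgroup.center R, (mt ((z : R) : GL ι F)) = 1 ∨ (mt ((z : R) : GL ι F)) = -1 := by
      intro z
      obtain ⟨c, hcz⟩ := (hcen _).1 z.2
      have h4 := hpow _ c hcz
      have h2' : (c * c) ^ 2 = 1 := by rw [← h4]; ring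
      rcases sq_eq_one_iff.1 h2' with h | h
      · rcases mul_self_eq_one_iff.1 h with rfl | rfl
        · left; rw [hcz, one_smul]
        · right; rw [hcz, neg_one_smul]
      · exact absurd h (hcon _ (z : R).2 c hcz)
    let f : Subgroup.center R → Bool := fun z => decide ((mt ((z : R) : GL ι F)) = 1)
    have hinj : Function.Injective f := by
      intro a b hab
      refine Subtype.ext (Subtype.ext (Units.ext ?_))
      have hiff : ((mt ((a : R) : GL ι F)) = 1 ↔ (mt ((b : R) : GL ι F)) = 1) := by simpa [f] using hab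
      rcases hval a with ha | ha <;> rcases hval b with hb | hb
      · rw [ha, hb]
      · exact ha.trans (hiff.1 ha).symm
      · exact (hiff.2 hb).trans hb.symm
      · rw [ha, hb]
    have := Nat.card_le_card_of_injective f hinj
    rw [hz] at this
    simp at this
  refine ⟨i, hii, h2, hn, ⟨g, hg, hgi⟩, hsgn, hsq, fun M hM => ?_, ?_⟩
  · refine hi.2 M ?_
    rintro _ ⟨x, hx, rfl⟩
    exact hM x hx
  · let φ : R →* CfsgLib.CliffMax93.PG ι F := (pg (ι := ι) (F := F)).comp R.subtype
    have hker : φ.ker = Subgroup.center R := by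
      ext x
      rw [MonoidHom.mem_ker, hcen]
      exact CfsgLib.CliffMax93.pg_eq_one_iff (x : GL ι F)
    have hrange : φ.range = R.map pg := by rw [MonoidHom.range_comp, Subgroup.range_subtype]
    have h3 := (Subgroup.card_eq_card_quotient_mul_card_subgroup φ.ker)
    rw [Nat.card_congr (QuotientGroup.quotientKerEquivRange φ).toEquiv, hrange, hker, hz, hc] at h3
    linarith

end CfsgLib.CliffSU8
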