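import Cfsg.Agent.Lib.GeomClasses.UnitClauses
import Cfsg.Agent.Lib.GeomClasses.UnitQr

/-!
A subgroup of `SU_n` containing the full special unitary groups on the two halves of an orthogonal
decomposition, and on one half of a second decomposition in general position, is `SU_n` as soon as it
does not stabilise the first decomposition.
-/

set_option autoImplicit false
set_option linter.unusedSectionVars false

namespace CfsgLib.CliffSU8

open Matrix Cfsg CfsgLib.GeomClasses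
open scoped MatrixGroups

variable {F : Type*} [Field F] [Fintype F] {n q : ℕ}

local notation "𝕙" => Cfsg.hermForm n F q
local notation "K" => Cfsg.GU n F q ⊓ Cfsg.Geo.specialLinear (Fin n) F

/-- `X` contains every element of `SU_n` living on `U` and trivial on `W`. -/
def Full (X : Subgroup (GL (Fin n) F)) (q : ℕ) (U W : Submodule F (Fin n → F)) : Prop :=
  ∀ g : GL (Fin n) F, g ∈ Cfsg.GU n F q ⊓ Cfsg.Geo.specialLinear (Fin n) F →
    (∀ x ∈ U, (g : Matrix (Fin n) (Fin n) F) *ᵥ x ∈ U) →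
    (∀ x ∈ W, (g : Matrix (Fin n) (Fin n) F) *ᵥ x = x) → g ∈ X

/-- An element with the given determinant on the first half. -/
theorem exists_det_on (hF : Fintype.card F = q ^ 2) {X : Subgroup (GL (Fin n) F)}
    {U W U' W' : Submodule F (Fin n → F)} (hU : Full X q U' W')
    (hperp : ∀ x ∈ U, ∀ y ∈ W, 𝕙 x y = 0) (hperp' : ∀ x ∈ U', ∀ y ∈ W', 𝕙 x y = 0)
    {e f : Fin n → F} (he : e ∈ U) (he' : e ∈ U') (hf : f ∈ W) (hf' : f ∈ U')
    (hee : 𝕙 e e ≠ 0) (hff : 𝕙 f f ≠ 0) {d : F} (hd : d * d ^ q = 1) :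
    ∃ δ ∈ X, δ ∈ K ∧ (∀ x ∈ W, 𝕙 x f = 0 → (δ : Matrix (Fin n) (Fin n) F) *ᵥ x = x) ∧
      (∀ x ∈ U, ((δ : Matrix (Fin n) (Fin n) F) *ᵥ x) ∈ U) ∧
      (∀ x ∈ W, ((δ : Matrix (Fin n) (Fin n) F) *ᵥ x) ∈ W) ∧
      ∀ A : Matrix (Fin n) (Fin n) F, (∀ x ∈ U, A *ᵥ x = (δ : Matrix (Fin n) (Fin n) F) *ᵥ x) →
        (∀ x ∈ W, A *ᵥ x = x) → U ⊔ W = ⊤ → A.det = d := by
  have hh := UnitPow.isUnitaryForm_hermForm hF n
  set σ := UnitPow.conj hF with hσ
  have hd0 : d ≠ 0 := fun h => by simp [h] at hd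
  have hes : σ (𝕙 e e) = 𝕙 e e := Unit.conj_form hh e e
  have hfs : σ (𝕙 f f) = 𝕙 f f := Unit.conj_form hh f f
  set s := (d - 1) / 𝕙 e e with hs
  set t := (d⁻¹ - 1) / 𝕙 f f with ht
  have hσd : σ d = d⁻¹ := eq_inv_of_mul_eq_one_right hd
  have hQs : UnitQr.QCond σ 𝕙 s e := by
    unfold UnitQr.QCond
    rw [hs, map_div₀, map_sub, map_one, hes, hσd]
    field_simp
    ring
  have hQt : UnitQr.QCond σ 𝕙 t f := by
    unfold UnitQr.QCond
    rw [ht, map_div₀, map_sub, map_one, hfs, map_inv₀, hσd, inv_inv]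
    field_simp
    ring
  have hef : 𝕙 e f = 0 := hperp e he f hf
  have hfe : 𝕙 f e = 0 := Unit.eq_zero_comm hh hef
  set δ := UnitQr.qr 𝕙 s e * UnitQr.qr 𝕙 t f with hδ
  have hmul : ∀ x, (δ : Matrix (Fin n) (Fin n) F) *ᵥ x =
      x + (t * 𝕙 x f) • f + (s * 𝕙 x e) • e := by
    intro x
    rw [hδ, Units.val_mul, ← mulVec_mulVec, UnitQr.qr_mulVec hh hQt, UnitQr.qr_mulVec hh hQs, Unit.add_left hh,
      Unit.smul_left hh, hfe, mul_zero, add_zero]
  have hδK : δ ∈ K := by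
    refine ⟨?_, CfsgLib.GeomClasses.mem_specialLinear.2 ?_⟩
    · exact mul_mem (UnitQr.qr_iso hh hQs) (UnitQr.qr_iso hh hQt)
    · rw [hδ, Units.val_mul, det_mul, UnitQr.qr_det hh hQs, UnitQr.qr_det hh hQt, hs, ht]
      field_simp
      ring
  have hxW : ∀ x ∈ W, 𝕙 x e = 0 := fun x hx => Unit.eq_zero_comm hh (hperp e he x hx)
  have hxU : ∀ x ∈ U, 𝕙 x f = 0 := fun x hx => hperp x hx f hf
  refine ⟨δ, hU δ hδK (fun x hx => ?_) (fun x hx => ?_), hδK, fun x hx hxf => ?_, fun x hx => ?_, fun x hx => ?_, ?_⟩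
  · rw [hmul]
    exact add_mem (add_mem hx (U'.smul_mem _ hf')) (U'.smul_mem _ he')
  · rw [hmul, Unit.eq_zero_comm hh (hperp' e he' x hx), Unit.eq_zero_comm hh (hperp' f hf' x hx)]
    simp
  · rw [hmul, hxf, hxW x hx]; simp
  · rw [hmul, hxU x hx]
    simp only [mul_zero, zero_smul, add_zero]
    exact add_mem hx (U.smul_mem _ he)
  · rw [hmul, hxW x hx]
    simp only [mul_zero, zero_smul, add_zero]
    exact add_mem hx (W.smul_mem _ hf)
  · intro A hAU hAW htop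
    have hA : A = (UnitQr.qr 𝕙 s e : Matrix (Fin n) (Fin n) F) := by
      refine Matrix.ext_of_mulVec_single fun i => ?_
      obtain ⟨u, hu, w, hw, huw⟩ := Submodule.mem_sup.1 (htop ▸ Submodule.mem_top (x := Pi.single i (1 : F)))
      rw [← huw, mulVec_add, mulVec_add, hAU u hu, hAW w hw, hmul, hxU u hu, UnitQr.qr_mulVec hh hQs,
        UnitQr.qr_mulVec hh hQs, hxW w hw]
      simp
    rw [hA, UnitQr.qr_det hh hQs, hs]
    field_simp
    ring

/-- The matrix that agrees with `A` on `U` and is the identity on `W`. -/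
theorem exists_half {U W : Submodule F (Fin n → F)} (hUW : IsCompl U W) (A : Matrix (Fin n) (Fin n) F) :
    ∃ B : Matrix (Fin n) (Fin n) F, (∀ x ∈ U, B *ᵥ x = A *ᵥ x) ∧ ∀ x ∈ W, B *ᵥ x = x := by
  classical
  refine ⟨LinearMap.toMatrix' (LinearMap.ofIsCompl hUW (A.mulVecLin.domRestrict U) W.subtype), fun x hx => ?_,
    fun x hx => ?_⟩
  · rw [LinearMap.toMatrix'_mulVec]
    exact LinearMap.ofIsCompl_apply_left hUW ⟨x, hx⟩
  · rw [LinearMap.toMatrix'_mulVec]
    exact LinearMap.ofIsCompl_apply_right hUW ⟨x, hx⟩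

theorem ext_sup {U W : Submodule F (Fin n → F)} (htop : U ⊔ W = ⊤) {A B : Matrix (Fin n) (Fin n) F}
    (h₁ : ∀ x ∈ U, A *ᵥ x = B *ᵥ x) (h₂ : ∀ x ∈ W, A *ᵥ x = B *ᵥ x) : A = B := by
  refine Matrix.ext_of_mulVec_single fun i => ?_
  obtain ⟨u, hu, w, hw, huw⟩ := Submodule.mem_sup.1 (htop ▸ Submodule.mem_top (x := Pi.single i (1 : F)))
  rw [← huw, mulVec_add, mulVec_add, h₁ u hu, h₂ w hw]

/-- The half of an isometry preserving an orthogonal splitting is an isometry. -/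
theorem half_mem_GU (hF : Fintype.card F = q ^ 2) {U W : Submodule F (Fin n → F)} (htop : U ⊔ W = ⊤)
    (hperp : ∀ x ∈ U, ∀ y ∈ W, 𝕙 x y = 0) {g : GL (Fin n) F} (hg : g ∈ Cfsg.GU n F q)
    (hgU : ∀ x ∈ U, (g : Matrix (Fin n) (Fin n) F) *ᵥ x ∈ U) {b : GL (Fin n) F}
    (h₁ : ∀ x ∈ U, (b : Matrix (Fin n) (Fin n) F) *ᵥ x = (g : Matrix (Fin n) (Fin n) F) *ᵥ x)
    (h₂ : ∀ x ∈ W, (b : Matrix (Fin n) (Fin n) F) *ᵥ x = x) : b ∈ Cfsg.GU n F q := by
  have hh := UnitPow.isUnitaryForm_hermForm hF n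
  refine UnitPow.mem_GU.2 fun x y => ?_
  obtain ⟨u, hu, w, hw, rfl⟩ := Submodule.mem_sup.1 (htop ▸ Submodule.mem_top (x := x))
  obtain ⟨u', hu', w', hw', rfl⟩ := Submodule.mem_sup.1 (htop ▸ Submodule.mem_top (x := y))
  simp only [mulVec_add, h₁ u hu, h₁ u' hu', h₂ w hw, h₂ w' hw', Unit.add_left hh, Unit.add_right hh]
  rw [UnitPow.mem_GU.1 hg u u', hperp _ (hgU u hu) w' hw', Unit.eq_zero_comm hh (hperp _ (hgU u' hu') w hw),
    hperp u hu w' hw', Unit.eq_zero_comm hh (hperp u' hu' w hw)]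

/-- The determinant of a unitary isometry has norm one. -/
theorem det_norm (hF : Fintype.card F = q ^ 2) {a : GL (Fin n) F} (ha : a ∈ Cfsg.GU n F q) :
    (a : Matrix (Fin n) (Fin n) F).det * (a : Matrix (Fin n) (Fin n) F).det ^ q = 1 := by
  classical
  set A : Matrix (Fin n) (Fin n) F := (a : Matrix (Fin n) (Fin n) F) with hA
  set σ := UnitPow.conj hF
  have key : Aᵀ * A.map σ = 1 := by
    ext i j
    have h := UnitPow.mem_GU.1 ha (Pi.single i 1) (Pi.single j 1)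
    rw [← hA] at h
    simp only [Cfsg.hermForm, mulVec_single_one] at h
    rw [Matrix.mul_apply]
    calc ∑ k, Aᵀ i k * A.map σ k j = ∑ k, A k i * (A k j) ^ q := rfl
      _ = ∑ k, (Pi.single i (1 : F) : Fin n → F) k * ((Pi.single j (1 : F) : Fin n → F) k) ^ q := h
      _ = (1 : Matrix (Fin n) (Fin n) F) i j := by
        rw [Finset.sum_eq_single i]
        · by_cases hij : i = j
          · subst hij; simp
          · have hq : q ≠ 0 := by
              rintro rfl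
              simp only [ne_eq, OfNat.ofNat_ne_zero, not_false_eq_true, zero_pow] at hF
              exact absurd hF Fintype.card_ne_zero
            simp [hij, zero_pow hq]
        · intro k _ hk; simp [hk]
        · intro h'; exact absurd (Finset.mem_univ i) h'
  have h2 := congrArg Matrix.det key
  rw [det_mul, det_transpose, det_one] at h2
  have h3 : (A.map σ).det = σ A.det := (RingHom.map_det σ.toRingHom A).symm
  rw [h3] at h2
  exact h2

/-- The stabiliser of a two-part decomposition is contained in `X`. -/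
theorem stabilizer_le (hF : Fintype.card F = q ^ 2) {X : Subgroup (GL (Fin n) F)}
    {D : Fin 2 → Submodule F (Fin n → F)} {U' W' : Submodule F (Fin n → F)}
    (hD : IsCompl (D 0) (D 1)) (hperp : ∀ x ∈ D 0, ∀ y ∈ D 1, 𝕙 x y = 0)
    (hperp' : ∀ x ∈ U', ∀ y ∈ W', 𝕙 x y = 0)
    (h0 : Full X q (D 0) (D 1)) (h1 : Full X q (D 1) (D 0)) (h' : Full X q U' W')
    {e f : Fin n → F} (he : e ∈ D 0) (he' : e ∈ U') (hf : f ∈ D 1) (hf' : f ∈ U')
    (hee : 𝕙 e e ≠ 0) (hff : 𝕙 f f ≠ 0)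
    {s : GL (Fin n) F} (hsX : s ∈ X) (hsK : s ∈ K)
    (hswap : (∀ x ∈ D 0, (s : Matrix (Fin n) (Fin n) F) *ᵥ x ∈ D 1) ∧
      ∀ x ∈ D 1, (s : Matrix (Fin n) (Fin n) F) *ᵥ x ∈ D 0) :
    Cfsg.Geo.decompositionStabilizer D ⊓ K ≤ X := by
  classical
  have hh := UnitPow.isUnitaryForm_hermForm hF n
  have key : ∀ g : GL (Fin n) F, g ∈ K → (∀ x ∈ D 0, (g : Matrix (Fin n) (Fin n) F) *ᵥ x ∈ D 0) →
      (∀ x ∈ D 1, (g : Matrix (Fin n) (Fin n) F) *ᵥ x ∈ D 1) → g ∈ X := by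
    intro g hg hg0 hg1
    have hgd := CfsgLib.GeomClasses.mem_specialLinear.1 hg.2
    obtain ⟨A, hA0, hA1⟩ := exists_half hD (g : Matrix (Fin n) (Fin n) F)
    obtain ⟨B, hB1, hB0⟩ := exists_half hD.symm (g : Matrix (Fin n) (Fin n) F)
    have htop : D 0 ⊔ D 1 = ⊤ := hD.sup_eq_top
    have hAB : A * B = (g : Matrix (Fin n) (Fin n) F) := by
      refine ext_sup htop (fun x hx => ?_) fun x hx => ?_
      · rw [← mulVec_mulVec, hB0 x hx, hA0 x hx]
      · rw [← mulVec_mulVec, hB1 x hx, hA1 _ (hg1 x hx)]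
    have hdAB : A.det * B.det = 1 := by rw [← det_mul, hAB, hgd]
    let a : GL (Fin n) F := Matrix.GeneralLinearGroup.mkOfDetNeZero A (left_ne_zero_of_mul_eq_one hdAB)
    have ha : a ∈ Cfsg.GU n F q := half_mem_GU hF htop hperp hg.1 hg0 hA0 hA1
    -- the determinant of an isometry has norm one
    have hnorm : A.det * A.det ^ q = 1 := det_norm hF ha
    obtain ⟨δ, hδX, hδK, -, hδ0, hδ1, hδdet⟩ :=
      exists_det_on hF h' hperp hperp' he he' hf hf' hee hff hnorm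
    -- compare with the correction
    have hrem : ∀ r : GL (Fin n) F, r ∈ K → (∀ x ∈ D 0, (r : Matrix (Fin n) (Fin n) F) *ᵥ x ∈ D 0) →
        (∀ x ∈ D 1, (r : Matrix (Fin n) (Fin n) F) *ᵥ x ∈ D 1) →
        ∀ A' : Matrix (Fin n) (Fin n) F, (∀ x ∈ D 0, A' *ᵥ x = (r : Matrix (Fin n) (Fin n) F) *ᵥ x) →
        (∀ x ∈ D 1, A' *ᵥ x = x) → A'.det = 1 → r ∈ X := by
      intro r hr hr0 hr1 A' hA0' hA1' hdet
      let a' : GL (Fin n) F := Matrix.GeneralLinearGroup.mkOfDetNeZero A' (by rw [hdet]; exact one_ne_zero)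
      have ha' : a' ∈ K :=
        ⟨half_mem_GU hF htop hperp hr.1 hr0 hA0' hA1', CfsgLib.GeomClasses.mem_specialLinear.2 hdet⟩
      have i0 : a' ∈ X := h0 a' ha' (fun x hx => by
        show A' *ᵥ x ∈ D 0
        rw [hA0' x hx]; exact hr0 x hx) hA1'
      have hinv : ∀ x ∈ D 1, ((a'⁻¹ : GL (Fin n) F) : Matrix (Fin n) (Fin n) F) *ᵥ x = x := by
        intro x hx
        conv_lhs => rw [← hA1' x hx]
        exact CfsgLib.GeomClasses.gl_inv_mulVec_mulVec a' x
      have i1 : a'⁻¹ * r ∈ X := by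
        refine h1 _ (mul_mem (inv_mem ha') hr) (fun x hx => ?_) fun x hx => ?_
        · rw [Units.val_mul, ← mulVec_mulVec, hinv _ (hr1 x hx)]; exact hr1 x hx
        · rw [Units.val_mul, ← mulVec_mulVec, ← hA0' x hx]
          exact CfsgLib.GeomClasses.gl_inv_mulVec_mulVec a' x
      have := mul_mem i0 i1
      rwa [mul_inv_cancel_left] at this
    -- `δ⁻¹ g`
    obtain ⟨A₁, hA10, hA11⟩ := exists_half hD (δ : Matrix (Fin n) (Fin n) F)
    have hdet1 : A₁.det = A.det := hδdet A₁ hA10 hA11 htop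
    have hne : A₁.det ≠ 0 := by rw [hdet1]; exact left_ne_zero_of_mul_eq_one hdAB
    let a₁ : GL (Fin n) F := Matrix.GeneralLinearGroup.mkOfDetNeZero A₁ hne
    have stab : ∀ (S : Submodule F (Fin n → F)), (∀ x ∈ S, (δ : Matrix (Fin n) (Fin n) F) *ᵥ x ∈ S) →
        ∀ x ∈ S, ((δ⁻¹ : GL (Fin n) F) : Matrix (Fin n) (Fin n) F) *ᵥ x ∈ S := by
      intro S hS x hx
      have hmap : S.map (Matrix.toLin' (δ : Matrix (Fin n) (Fin n) F)) = S := by
        refine Submodule.eq_of_le_of_finrank_eq ?_ ?_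
        · rintro _ ⟨y, hy, rfl⟩; rw [Matrix.toLin'_apply]; exact hS y hy
        · refine LinearEquiv.finrank_eq (Submodule.equivMapOfInjective _ ?_ S).symm
          intro y z hyz
          simp only [Matrix.toLin'_apply] at hyz
          rw [← CfsgLib.GeomClasses.gl_inv_mulVec_mulVec δ y, hyz, CfsgLib.GeomClasses.gl_inv_mulVec_mulVec]
      obtain ⟨y, hy, rfl⟩ := hmap ▸ hx
      rw [Matrix.toLin'_apply, CfsgLib.GeomClasses.gl_inv_mulVec_mulVec]; exact hy
    have h2 : δ⁻¹ * g ∈ X := by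
      refine hrem _ (mul_mem (inv_mem hδK) hg) (fun x hx => ?_) (fun x hx => ?_)
        (((a₁⁻¹ * a : GL (Fin n) F)) : Matrix (Fin n) (Fin n) F) (fun x hx => ?_) (fun x hx => ?_) ?_
      · rw [Units.val_mul, ← mulVec_mulVec]; exact stab _ hδ0 _ (hg0 x hx)
      · rw [Units.val_mul, ← mulVec_mulVec]; exact stab _ hδ1 _ (hg1 x hx)
      · rw [Units.val_mul, Units.val_mul, ← mulVec_mulVec, ← mulVec_mulVec,
          show (a : Matrix (Fin n) (Fin n) F) = A from rfl, hA0 x hx]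
        set y := ((δ⁻¹ : GL (Fin n) F) : Matrix (Fin n) (Fin n) F) *ᵥ ((g : Matrix (Fin n) (Fin n) F) *ᵥ x) with hy
        have hy0 : y ∈ D 0 := stab _ hδ0 _ (hg0 x hx)
        have e1 : (g : Matrix (Fin n) (Fin n) F) *ᵥ x = A₁ *ᵥ y := by
          rw [hA10 y hy0, hy, CfsgLib.GeomClasses.gl_mulVec_inv_mulVec]
        rw [e1]
        exact CfsgLib.GeomClasses.gl_inv_mulVec_mulVec a₁ y
      · rw [Units.val_mul, ← mulVec_mulVec, show (a : Matrix (Fin n) (Fin n) F) = A from rfl, hA1 x hx]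
        conv_lhs => rw [← hA11 x hx]
        exact CfsgLib.GeomClasses.gl_inv_mulVec_mulVec a₁ x
      · rw [Units.val_mul, det_mul]
        have e1 : ((a₁⁻¹ : GL (Fin n) F) : Matrix (Fin n) (Fin n) F).det * A₁.det = 1 := by
          rw [← det_mul]
          show (((a₁⁻¹ : GL (Fin n) F) : Matrix (Fin n) (Fin n) F) * (a₁ : Matrix (Fin n) (Fin n) F)).det = 1
          rw [← Units.val_mul, inv_mul_cancel, Units.val_one, det_one]
        rw [show (a : Matrix (Fin n) (Fin n) F) = A from rfl, ← hdet1]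
        exact e1
    have := mul_mem hδX h2
    rwa [mul_inv_cancel_left] at this
  rintro g ⟨⟨π, hπ⟩, hg⟩
  have hmem : ∀ i, ∀ x ∈ D i, (g : Matrix (Fin n) (Fin n) F) *ᵥ x ∈ D (π i) := by
    intro i x hx
    rw [← hπ i, ← Matrix.toLin'_apply]
    exact Submodule.mem_map_of_mem hx
  by_cases hπ0 : π 0 = 0
  · have hπ1 : π 1 = 1 := by
      have := π.injective.ne (show (1 : Fin 2) ≠ 0 by decide)
      rw [hπ0] at this
      omega
    exact key g hg (fun x hx => hπ0 ▸ hmem 0 x hx) (fun x hx => hπ1 ▸ hmem 1 x hx)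
  · have hπ0' : π 0 = 1 := by omega
    have hπ1 : π 1 = 0 := by
      have := π.injective.ne (show (1 : Fin 2) ≠ 0 by decide)
      rw [hπ0'] at this
      omega
    have h3 := key (s * g) (mul_mem hsK hg)
      (fun x hx => by rw [Units.val_mul, ← mulVec_mulVec]; exact hswap.2 _ (hπ0' ▸ hmem 0 x hx))
      (fun x hx => by rw [Units.val_mul, ← mulVec_mulVec]; exact hswap.1 _ (hπ1 ▸ hmem 1 x hx))
    exact (Subgroup.mul_mem_cancel_left X hsX).1 h3

end CfsgLib.CliffSU8
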