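import Cfsg.Agent.Lib.CliffMax93.Gate

/-!
Determinants, the order and the symplectic type of a Clifford group.
-/

set_option autoImplicit false
set_option linter.unusedSectionVars false

namespace CfsgLib.CliffSU8

open Cfsg Cfsg.Geo Matrix
open CfsgLib.CliffMax93
open scoped MatrixGroups

variable {ι : Type} [Fintype ι] [DecidableEq ι] {F : Type*} [Field F] [Finite F]
  {R : Subgroup (GL ι F)} {i : F}

theorem lift_sign (hC : Cliff R i) {g h : GL ι F} (hg : mt g * mt g = 1) (hh : mt h * mt h = 1)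
    (he : pg g = pg h) : mt g = mt h ∨ mt g = -mt h := by
  have := hC.nonempty
  obtain ⟨c, hc⟩ := (pg_eq_iff g h).1 he
  have h1 : (c * c) • (1 : Matrix ι ι F) = (1 : F) • 1 := by
    rw [hc, smul_mul_smul_comm, hh] at hg
    rw [one_smul]; exact hg
  have hcc : c * c = 1 := by
    have j := Classical.arbitrary ι
    simpa using congrFun (congrFun h1 j) j
  rcases mul_self_eq_one_iff.1 hcc with rfl | rfl
  · left; rw [hc, one_smul]
  · right; rw [hc, neg_one_smul]

theorem i_pow_four (hC : Cliff R i) : i ^ 4 = 1 := by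
  calc i ^ 4 = (i * i) * (i * i) := by ring
    _ = 1 := by rw [hC.hi]; ring

/-- An element of square one is a commutator up to a scalar, so its determinant is one. -/
theorem det_sq_one (hC : Cliff R i) (h4 : 4 ∣ Fintype.card ι) {s : GL ι F} (hs : s ∈ R) (hs1 : pg s ≠ 1)
    (hs2 : mt s * mt s = 1) : (mt s).det = 1 := by
  obtain ⟨t, ht⟩ := exists_isT hC hs2
  obtain ⟨v₀, hv₀, hv₀s⟩ := hC.exists_anti hs1
  obtain ⟨v, hv, hvv, hv2⟩ := hC.exists_lift_one hv₀
  have hb : bt s v = -1 := by rw [hC.bt_congr hs hs hv hv₀ rfl hvv]; exact hv₀s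
  have hsv : mt s * mt v = -(mt v * mt s) := by
    have := hC.mul_bt hs hv; rwa [hb, neg_one_smul] at this
  have e : mt (t * v * t⁻¹) = i • (mt v * mt s) := ht.conj_anti hC hs2 hsv
  have hd := congrArg Matrix.det e
  rw [mt_conj, det_mul, det_mul, det_smul, det_mul, mul_comm (mt t).det, mul_assoc, ← det_mul, Units.mul_inv,
    det_one, mul_one] at hd
  obtain ⟨k, hk⟩ := h4
  rw [hk, pow_mul, i_pow_four hC, one_pow, one_mul] at hd
  have hne : (mt v).det ≠ 0 := fun h0 => by
    have := congrArg Matrix.det hv2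
    rw [det_mul, h0, zero_mul, det_one] at this
    exact zero_ne_one this
  exact ((mul_eq_left₀ hne).1 hd.symm)

theorem det_eq_one (hC : Cliff R i) (h4 : 4 ∣ Fintype.card ι) {r : GL ι F} (hr : r ∈ R) : (mt r).det = 1 := by
  obtain ⟨k, hk⟩ := h4
  have := hC.nonempty
  obtain ⟨s, hs, hsr, hs2⟩ := hC.exists_lift_one hr
  obtain ⟨c, hc⟩ := (pg_eq_iff r s).1 hsr.symm
  have hc4 : c ^ 4 = 1 := by
    have hsq : (c * c) ^ 2 = 1 := by
      have j := Classical.arbitrary ι
      rcases hC.sq r hr with h | h <;> rw [hc, smul_mul_smul_comm, hs2] at h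
      · have e : c * c = 1 := by simpa using congrFun (congrFun h j) j
        rw [e, one_pow]
      · have e : c * c = -1 := by simpa using congrFun (congrFun h j) j
        rw [e]; ring
    linear_combination hsq
  rw [hc, det_smul, hk, pow_mul, hc4, one_pow, one_mul]
  by_cases hs1 : pg s = 1
  · obtain ⟨d, hd⟩ := (pg_eq_one_iff s).1 hs1
    have j := Classical.arbitrary ι
    have hd2 : d * d = 1 := by
      rw [hd, smul_mul_smul_comm, one_mul] at hs2
      simpa using congrFun (congrFun hs2 j) j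
    rw [hd, det_smul, det_one, mul_one, hk, pow_mul, show d ^ 4 = (d * d) * (d * d) by ring, hd2, one_mul, one_pow]
  · exact det_sq_one hC ⟨k, hk⟩ hs hs1 hs2

/-- All transvection lifts have the same determinant, which is a sign. -/
theorem det_isT (hC : Cliff R i) (h4 : 4 ∣ Fintype.card ι) {s s' t t' : GL ι F} (hs : s ∈ R) (hs' : s' ∈ R)
    (hs1 : pg s ≠ 1) (hs1' : pg s' ≠ 1) (hs2 : mt s * mt s = 1) (hs2' : mt s' * mt s' = 1)
    (ht : IsT i t s) (ht' : IsT i t' s') : (mt t').det * (mt t).det = 1 := by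
  have hd : ∀ {t s : GL ι F}, s ∈ R → pg s ≠ 1 → mt s * mt s = 1 → IsT i t s → (mt t).det * (mt t).det = 1 := by
    intro t s hs hs1 hs2 ht
    rw [← det_mul, ← Units.val_mul, ht.sq hC hs2]
    exact det_sq_one hC h4 hs hs1 hs2
  have hT : HasT R i (⊤ : Subgroup (GL ι F)) := fun s _ _ h => by
    obtain ⟨t, ht⟩ := exists_isT hC h
    exact ⟨t, Subgroup.mem_top t, ht⟩
  obtain ⟨m, -, -, hm⟩ := transitive hC hT hs hs' hs1 hs1'
  have hm2 : mt (m * s * m⁻¹) * mt (m * s * m⁻¹) = 1 := by
    rw [← Units.val_mul, show m * s * m⁻¹ * (m * s * m⁻¹) = m * (s * s) * m⁻¹ by group,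
      show s * s = 1 from Units.ext (by rw [Units.val_mul]; exact hs2), mul_one, mul_inv_cancel, Units.val_one]
  have hconj : (mt (m * t * m⁻¹)).det = (mt t).det := by
    rw [mt_conj, det_mul, det_mul, mul_comm (mt m).det, mul_assoc, ← det_mul, Units.mul_inv, det_one, mul_one]
  rcases lift_sign hC hm2 hs2' hm with e | e
  · have h1 : IsT i t' (m * s * m⁻¹) := by unfold IsT at ht' ⊢; rw [e]; exact ht'
    rw [h1.unique (ht.conj m), hconj]
    exact hd hs hs1 hs2 ht
  · have h1 : mt t' = Tm i (-mt (m * s * m⁻¹)) := by rw [e, neg_neg]; exact ht'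
    have h2 := congrArg Matrix.det (Tm_mul hC.hi hC.two hm2).1
    rw [← h1, show Tm i (mt (m * s * m⁻¹)) = mt (m * t * m⁻¹) from (ht.conj m).symm, det_mul, hconj, det_smul,
      det_one, mul_one] at h2
    obtain ⟨k, hk⟩ := h4
    rw [hk, pow_mul, i_pow_four hC, one_pow, mul_comm] at h2
    exact h2

/-- A product of two transvection lifts moves one non-central element to any other. -/
theorem exists_move_two (hC : Cliff R i) (h4 : 4 ∣ Fintype.card ι) {u v : GL ι F} (hu : u ∈ R) (hv : v ∈ R)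
    (hu1 : pg u ≠ 1) (hv1 : pg v ≠ 1) :
    ∃ s s' t t' : GL ι F, s ∈ R ∧ s' ∈ R ∧ mt s * mt s = 1 ∧ mt s' * mt s' = 1 ∧ IsT i t s ∧ IsT i t' s' ∧
      (mt (t' * t)).det = 1 ∧ t' * t ∈ Subgroup.normalizer (R : Set (GL ι F)) ∧
      pg (t' * t * u * (t' * t)⁻¹) = pg v := by
  have hne : ∀ {x y : GL ι F}, x ∈ R → y ∈ R → bt x y = -1 →
      ∃ s t : GL ι F, s ∈ R ∧ pg s ≠ 1 ∧ mt s * mt s = 1 ∧ IsT i t s ∧ pg (t * x * t⁻¹) = pg y := by
    intro x y hx hy hxy
    obtain ⟨s, hs, hsw, hs2⟩ := hC.exists_lift_one (R.mul_mem hx hy)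
    have hb : bt s x = -1 := by
      rw [hC.bt_congr_left hs (R.mul_mem hx hy) hx hsw, bt_mul_left hC hx hy hx, bt_self, bt_symm y, hxy, one_mul]
    have hs1 : pg s ≠ 1 := fun e => hC.neg_one_ne_one (by
      rw [← hb, hC.bt_congr_left hs R.one_mem hx (by rw [e, map_one])]; simp [bt])
    obtain ⟨t, hts⟩ := exists_isT hC hs2
    refine ⟨s, t, hs, hs1, hs2, hts, ?_⟩
    rw [(hts.pg_conj hC hs2 hs hx).2 hb, map_mul, hsw, map_mul, ← mul_assoc, hC.pg_sq hx, one_mul]
  obtain ⟨w, hw, huw, hvw⟩ := exists_anti_both hC hu1 hv1 hu hv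
  obtain ⟨s, t, hs, hs1, hs2, ht, htu⟩ := hne hu hw huw
  obtain ⟨s', t', hs', hs1', hs2', ht', htw⟩ := hne hw hv (by rw [bt_symm]; exact hvw)
  refine ⟨s, s', t, t', hs, hs', hs2, hs2', ht, ht', ?_,
    mul_mem (ht'.mem_normalizer hC hs2' hs') (ht.mem_normalizer hC hs2 hs), ?_⟩
  · rw [show mt (t' * t) = mt t' * mt t from Units.val_mul _ _, det_mul]
    exact det_isT hC h4 hs hs' hs1 hs1' hs2 hs2' ht ht'
  · rw [show t' * t * u * (t' * t)⁻¹ = t' * (t * u * t⁻¹) * t'⁻¹ by group, map_mul, map_mul, htu, ← map_mul,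
      ← map_mul, htw]

/-- A Clifford group has order `4 n²`, centre of order four and is of symplectic type. -/
theorem symplecticType (hC : Cliff R i) (_h2n : 2 ≤ Fintype.card ι) (hpow : ∃ m, Fintype.card ι = 2 ^ m) :
    Nat.card R = 4 * Fintype.card ι ^ 2 ∧ Nat.card (Subgroup.center R) = 4 ∧
      Cfsg.Geo.IsSymplecticTypeGroup 2 R := by
  classical
  have := hC.nonempty
  have j := Classical.arbitrary ι
  have : Finite R := Subtype.finite
  have hcen : ∀ g : R, g ∈ Subgroup.center R ↔ pg (g : GL ι F) = 1 := by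
    intro g
    rw [Subgroup.mem_center_iff]
    refine ⟨fun h => hC.pg_eq_one_of_comm fun b hb => (congrArg Subtype.val (h ⟨b, hb⟩)).symm, fun h x => ?_⟩
    obtain ⟨c, hc⟩ := (pg_eq_one_iff _).1 h
    refine Subtype.ext (Units.ext ?_)
    simp only [Subgroup.coe_mul, Units.val_mul]
    rw [show ((g : GL ι F) : Matrix ι ι F) = c • 1 from hc]
    simp
  have hsc : ∀ {g : GL ι F}, g ∈ R → ∀ c : F, mt g = c • 1 → c = 1 ∨ c = -1 ∨ c = i ∨ c = -i := by
    intro g hg c hc
    have h1 : c * c = 1 ∨ c * c = -1 := by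
      rcases hC.sq g hg with h | h <;> rw [hc, smul_mul_smul_comm, one_mul] at h
      · left; simpa using congrFun (congrFun h j) j
      · right; simpa using congrFun (congrFun h j) j
    rcases h1 with h | h
    · rcases mul_self_eq_one_iff.1 h with r | r
      · exact Or.inl r
      · exact Or.inr (Or.inl r)
    · rw [← hC.hi] at h
      rcases mul_self_eq_mul_self_iff.1 h with r | r
      · exact Or.inr (Or.inr (Or.inl r))
      · exact Or.inr (Or.inr (Or.inr r))
  -- the four scalars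
  have hmk : ∀ c : F, c ^ 4 = 1 → ∃ g ∈ R, mt g = c • 1 := by
    intro c hc
    have hc0 : c ≠ 0 := fun h => by rw [h] at hc; simp at hc
    let z : GL ι F := ⟨c • 1, c⁻¹ • 1, by rw [smul_mul_smul_comm, mul_inv_cancel₀ hc0, one_smul, one_mul],
      by rw [smul_mul_smul_comm, inv_mul_cancel₀ hc0, one_smul, one_mul]⟩
    exact ⟨z, hC.root_mem hc rfl, rfl⟩
  let T : Finset F := {1, -1, i, -i}
  have hT : ∀ c : F, c ∈ T → c ^ 4 = 1 := by
    intro c hc
    simp only [T, Finset.mem_insert, Finset.mem_singleton] at hc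
    have := i_pow_four hC
    rcases hc with rfl | rfl | rfl | rfl <;> first | ring1 | linear_combination this
  have hTcard : T.card = 4 := by
    have h2 := hC.two
    have e1 : (1 : F) ≠ -1 := fun h => h2 (by linear_combination h)
    have e2 : (1 : F) ≠ i := fun h => h2 (by linear_combination hC.hi + (1 + i) * h)
    have e3 : (1 : F) ≠ -i := fun h => h2 (by linear_combination hC.hi + (1 - i) * h)
    have e4 : (-1 : F) ≠ i := fun h => h2 (by linear_combination hC.hi + (-1 + i) * h)
    have e5 : (-1 : F) ≠ -i := fun h => h2 (by linear_combination hC.hi + (-1 - i) * h)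
    have e6 : i ≠ -i := fun h => h2 (by linear_combination (-i) * h + 2 * hC.hi)
    simp [T, e1, e2, e3, e4, e5, e6]
  have hZ : Nat.card (Subgroup.center R) = 4 := by
    rw [← hTcard, ← Nat.card_eq_finsetCard T]
    have hmk' : ∀ c : T, ∃ z : Subgroup.center R, mt ((z : R) : GL ι F) = (c : F) • 1 := by
      intro c
      obtain ⟨g, hg, hgc⟩ := hmk c (hT c c.2)
      exact ⟨⟨⟨g, hg⟩, (hcen _).2 ((pg_eq_one_iff _).2 ⟨c, hgc⟩)⟩, hgc⟩
    choose f hf using hmk'
    refine (Nat.card_congr (Equiv.ofBijective f ⟨fun c d e => ?_, fun z => ?_⟩)).symm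
    · have h1 : mt ((f c : R) : GL ι F) = (d : F) • 1 := by rw [e]; exact hf d
      rw [hf c] at h1
      exact Subtype.ext (by simpa using congrFun (congrFun h1 j) j)
    · obtain ⟨c, hc⟩ := (pg_eq_one_iff _).1 ((hcen _).1 z.2)
      have hcT : c ∈ T := by
        rcases hsc (z : R).2 c hc with h | h | h | h <;> simp [T, h]
      exact ⟨⟨c, hcT⟩, Subtype.ext (Subtype.ext (Units.ext ((hf ⟨c, hcT⟩).trans hc.symm)))⟩
  have hR : Nat.card R = 4 * Fintype.card ι ^ 2 := by
    let φ : R →* PG ι F := (pg (ι := ι) (F := F)).comp R.subtype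
    have hker : φ.ker = Subgroup.center R := by ext x; rw [MonoidHom.mem_ker, hcen]; rfl
    have hrange : φ.range = R.map pg := by rw [MonoidHom.range_comp, Subgroup.range_subtype]
    rw [Subgroup.card_eq_card_quotient_mul_card_subgroup φ.ker,
      Nat.card_congr (QuotientGroup.quotientKerEquivRange φ).toEquiv, hrange, hker, hZ, hC.card]
    ring
  refine ⟨hR, hZ, ⟨Nat.prime_two, ?_, fun A hA hAc => ?_, ?_⟩⟩
  · obtain ⟨m, hm⟩ := hpow
    exact IsPGroup.of_card (n := 2 + m * 2) (by rw [hR, hm, pow_add, pow_mul]; norm_num)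
  · -- characteristic abelian subgroups are central
    have hAZ : ∀ x ∈ A, pg ((x : R) : GL ι F) = 1 := by
      intro x hx
      by_contra hx1
      have cover : ∀ v : R, pg (v : GL ι F) ≠ 1 → ∃ y ∈ A, pg ((y : R) : GL ι F) = pg (v : GL ι F) := by
        intro v hv1
        have hT : HasT R i (⊤ : Subgroup (GL ι F)) := fun s _ _ h => by
          obtain ⟨t, ht⟩ := exists_isT hC h
          exact ⟨t, Subgroup.mem_top t, ht⟩
        obtain ⟨m, -, hmN, hm⟩ := transitive hC hT x.2 v.2 hx1 hv1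
        let ψ : R ≃* R :=
          { toFun := fun r => ⟨m * r * m⁻¹, (Subgroup.mem_normalizer_iff.1 hmN r).1 r.2⟩
            invFun := fun r => ⟨m⁻¹ * r * m, (Subgroup.mem_normalizer_iff.1 hmN _).2
              (by simpa [mul_assoc] using r.2)⟩
            left_inv := fun r => Subtype.ext (by simp [mul_assoc])
            right_inv := fun r => Subtype.ext (by simp [mul_assoc])
            map_mul' := fun r r' => Subtype.ext (by simp [mul_assoc]) }
        exact ⟨ψ x, (hA.fixed ψ).ge hx, hm⟩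
      obtain ⟨v, hv, hxv⟩ := hC.exists_anti hx1
      have hv1 : pg v ≠ 1 := by
        intro h
        obtain ⟨c, hc⟩ := (pg_eq_one_iff v).1 h
        refine hC.neg_one_ne_one (hxv.symm.trans ((bt_comm_iff hC _ v).2 (Units.ext ?_)))
        simp only [Units.val_mul]
        rw [show ((v : GL ι F) : Matrix ι ι F) = c • 1 from hc]
        simp
      obtain ⟨y, hy, hyv⟩ := cover ⟨v, hv⟩ hv1
      have hcomm : (x : R) * y = y * x := congrArg Subtype.val (hAc.is_comm.comm ⟨x, hx⟩ ⟨y, hy⟩)
      have h1 : bt (x : GL ι F) (y : GL ι F) = 1 := (bt_comm_iff hC _ _).2 (congrArg Subtype.val hcomm)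
      rw [hC.bt_congr x.2 x.2 y.2 hv rfl hyv, hxv] at h1
      exact hC.neg_one_ne_one h1
    refine isCyclic_of_subgroup_isDomain
      ({ toFun := fun z : A => mt ((z : R) : GL ι F) j j
         map_one' := by simp
         map_mul' := fun z w => by
           obtain ⟨c, hc⟩ := (pg_eq_one_iff _).1 (hAZ z z.2)
           obtain ⟨d, hd⟩ := (pg_eq_one_iff _).1 (hAZ w w.2)
           simp only [Subgroup.coe_mul]
           rw [show mt (((z : R) : GL ι F) * ((w : R) : GL ι F)) =
             mt ((z : R) : GL ι F) * mt ((w : R) : GL ι F) from Units.val_mul _ _, hc, hd]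
           simp [mul_comm] } : A →* F) fun z w e => ?_
    obtain ⟨c, hc⟩ := (pg_eq_one_iff _).1 (hAZ z z.2)
    obtain ⟨d, hd⟩ := (pg_eq_one_iff _).1 (hAZ w w.2)
    have e' : c = d := by
      simp only [MonoidHom.coe_mk, OneHom.coe_mk, hc, hd] at e
      simpa using e
    exact Subtype.ext (Subtype.ext (Units.ext (hc.trans (e' ▸ hd.symm))))
  · have hdvd : Monoid.exponent R ∣ 4 := by
      refine Monoid.exponent_dvd_of_forall_pow_eq_one fun r => Subtype.ext (Units.ext ?_)
      have e : ((((r ^ 4 : R) : GL ι F)) : Matrix ι ι F) = (mt (r : GL ι F) * mt (r : GL ι F)) * (mt (r : GL ι F) * mt (r : GL ι F)) := by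
        simp [pow_succ, mul_assoc]
      rw [e]
      rcases hC.sq _ r.2 with h | h <;> rw [h] <;> simp
    obtain ⟨g, hg, hgi⟩ := hC.scal
    have hord : orderOf (⟨g, hg⟩ : R) = 4 := by
      refine orderOf_eq_prime_pow (p := 2) (n := 1) (fun h => ?_) (orderOf_dvd_iff_pow_eq_one.1
        ((Monoid.order_dvd_exponent _).trans hdvd))
      have := congrArg (fun r : R => mt (r : GL ι F)) h
      simp only [Subgroup.coe_pow, Units.val_pow_eq_pow_val, OneMemClass.coe_one, Units.val_one] at this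
      rw [show (g : Matrix ι ι F) = i • 1 from hgi, smul_pow, one_pow] at this
      have e : i * i = 1 := by simpa [pow_two] using congrFun (congrFun this j) j
      exact hC.neg_one_ne_one (hC.hi.symm.trans e)
    simpa using Nat.dvd_antisymm hdvd (hord ▸ Monoid.order_dvd_exponent _)

end CfsgLib.CliffSU8
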