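import Cfsg.Agent.Lib.CliffMax93.Gate2
import Cfsg.Agent.Lib.CliffMax93.Block
import Cfsg.Agent.Lib.GeomClasses.UnitClauses
import Cfsg.Agent.Lib.PrimeElusive.UnitFixND

/-!
An isometric embedding of the fixed space of a unitary involution and the projection along it.
-/

set_option autoImplicit false
set_option linter.unusedSectionVars false

namespace CfsgLib.CliffSU8

open Matrix Cfsg CfsgLib.GeomClasses
open CfsgLib.CliffMax93 (Pr Pm Cliff pg)
open scoped MatrixGroups

variable {F : Type*} [Field F] [Fintype F] {n m q : ℕ}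

/-- The adjoint of a rectangular matrix for the standard hermitian forms. -/
def adj (q : ℕ) {α β : Type} (A : Matrix α β F) : Matrix β α F :=
  (A.map (· ^ q))ᵀ

theorem adj_mul (hF : Fintype.card F = q ^ 2) {α β γ : Type} [Fintype β] (A : Matrix α β F)
    (B : Matrix β γ F) : adj q (A * B) = adj q B * adj q A := by
  unfold adj
  rw [← Matrix.transpose_mul]
  congr 1
  exact Matrix.map_mul (f := (UnitPow.conj hF).toRingHom)

theorem adj_adj (hF : Fintype.card F = q ^ 2) {α β : Type} (A : Matrix α β F) : adj q (adj q A) = A := by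
  ext x y
  show (A x y ^ q) ^ q = A x y
  rw [← pow_mul, ← pow_two, ← hF, FiniteField.pow_card]

theorem herm_eq {a : ℕ} (x y : Fin a → F) : Cfsg.hermForm a F q x y = x ⬝ᵥ fun i => y i ^ q := rfl

theorem eq_of_herm {a b : ℕ} (hF : Fintype.card F = q ^ 2) (A B : Matrix (Fin a) (Fin b) F)
    (h : ∀ x y, Cfsg.hermForm a F q (A *ᵥ x) y = Cfsg.hermForm a F q (B *ᵥ x) y) : A = B := by
  have hq : q ≠ 0 := by have := UnitPow.two_le hF; omega
  refine Matrix.ext_of_mulVec_single fun i => funext fun j => ?_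
  have := h (Pi.single i 1) (Pi.single j 1)
  simp only [Cfsg.hermForm] at this
  rw [Finset.sum_eq_single j (fun k _ hk => by simp [hk, zero_pow hq]) (fun h' => absurd (Finset.mem_univ j) h'),
    Finset.sum_eq_single j (fun k _ hk => by simp [hk, zero_pow hq]) (fun h' => absurd (Finset.mem_univ j) h')] at this
  simpa using this

/-- The defining property of the adjoint. -/
theorem herm_adj (hF : Fintype.card F = q ^ 2) {a b : ℕ} (A : Matrix (Fin a) (Fin b) F) (x : Fin b → F)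
    (y : Fin a → F) : Cfsg.hermForm a F q (A *ᵥ x) y = Cfsg.hermForm b F q x (adj q A *ᵥ y) := by
  have e : (fun i => (adj q A *ᵥ y) i ^ q) = Aᵀ *ᵥ (fun i => y i ^ q) := by
    funext i
    show (∑ j, (A j i ^ q) * y j) ^ q = ∑ j, A j i * (y j ^ q)
    rw [← UnitPow.conj_apply hF, map_sum]
    refine Finset.sum_congr rfl fun j _ => ?_
    rw [map_mul, UnitPow.conj_apply, UnitPow.conj_apply, ← pow_mul, ← pow_two, ← hF, FiniteField.pow_card]
  rw [herm_eq, herm_eq, e, dotProduct_mulVec, vecMul_transpose]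

theorem mem_GU_iff_adj (hF : Fintype.card F = q ^ 2) (g : GL (Fin n) F) :
    g ∈ Cfsg.GU n F q ↔ adj q (g : Matrix (Fin n) (Fin n) F) * (g : Matrix (Fin n) (Fin n) F) = 1 := by
  constructor
  · intro hg
    refine eq_of_herm hF _ _ fun x y => ?_
    rw [← mulVec_mulVec, one_mulVec, herm_adj hF, adj_adj hF]
    exact UnitPow.mem_GU.1 hg x y
  · intro h
    refine UnitPow.mem_GU.2 fun x y => ?_
    rw [herm_adj hF, mulVec_mulVec, h, one_mulVec]

theorem adj_eq_inv (hF : Fintype.card F = q ^ 2) {g : GL (Fin n) F} (hg : g ∈ Cfsg.GU n F q) :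
    adj q (g : Matrix (Fin n) (Fin n) F) = ((g⁻¹ : GL (Fin n) F) : Matrix (Fin n) (Fin n) F) := by
  calc adj q (g : Matrix (Fin n) (Fin n) F)
      = adj q (g : Matrix (Fin n) (Fin n) F) * ((g : Matrix (Fin n) (Fin n) F) *
          ((g⁻¹ : GL (Fin n) F) : Matrix (Fin n) (Fin n) F)) := by rw [Units.mul_inv, mul_one]
    _ = _ := by rw [← mul_assoc, (mem_GU_iff_adj hF g).1 hg, one_mul]

/-- An involution of the unitary group is self-adjoint. -/
theorem adj_involution (hF : Fintype.card F = q ^ 2) {a : GL (Fin n) F} (hg : a ∈ Cfsg.GU n F q)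
    (ha : (a : Matrix (Fin n) (Fin n) F) * (a : Matrix (Fin n) (Fin n) F) = 1) :
    adj q (a : Matrix (Fin n) (Fin n) F) = (a : Matrix (Fin n) (Fin n) F) := by
  rw [adj_eq_inv hF hg]
  calc ((a⁻¹ : GL (Fin n) F) : Matrix (Fin n) (Fin n) F)
      = ((a⁻¹ : GL (Fin n) F) : Matrix (Fin n) (Fin n) F) *
          ((a : Matrix (Fin n) (Fin n) F) * (a : Matrix (Fin n) (Fin n) F)) := by rw [ha, mul_one]
    _ = _ := by rw [← mul_assoc, Units.inv_mul, one_mul]

theorem adj_Pr (hF : Fintype.card F = q ^ 2) {a : GL (Fin n) F} (hg : a ∈ Cfsg.GU n F q)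
    (ha : (a : Matrix (Fin n) (Fin n) F) * (a : Matrix (Fin n) (Fin n) F) = 1) : adj q (Pr a) = Pr a := by
  have e := adj_involution hF hg ha
  unfold adj CfsgLib.CliffMax93.Pr CfsgLib.CliffMax93.mt at *
  have h1 : ((1 / 2 : F) • (1 + (a : Matrix (Fin n) (Fin n) F))).map (UnitPow.conj hF) =
      (1 / 2 : F) • (1 + (a : Matrix (Fin n) (Fin n) F).map (UnitPow.conj hF)) := by
    ext x y
    simp only [Matrix.map_apply, Matrix.smul_apply, Matrix.add_apply, smul_eq_mul, map_mul, map_add, map_div₀,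
      map_one, map_ofNat]
    by_cases hxy : x = y
    · subst hxy; simp
    · have : q ≠ 0 := by have := UnitPow.two_le hF; omega
      simp [Matrix.one_apply_ne hxy, zero_pow this]
  show (((1 / 2 : F) • (1 + (a : Matrix (Fin n) (Fin n) F))).map (UnitPow.conj hF))ᵀ = _
  rw [h1, transpose_smul, transpose_add, transpose_one]
  exact congrArg (fun M => (1 / 2 : F) • (1 + M)) e

/-- An isometric embedding of the fixed space of `a`. -/
structure Emb (q : ℕ) (a : GL (Fin n) F) (J : Matrix (Fin n) (Fin m) F) : Prop where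
  iso : adj q J * J = 1
  proj : J * adj q J = Pr a

theorem fix_nondeg (hF : Fintype.card F = q ^ 2) (h2 : (2 : F) ≠ 0) {a : GL (Fin n) F}
    (hg : a ∈ Cfsg.GU n F q) (ha : (a : Matrix (Fin n) (Fin n) F) * (a : Matrix (Fin n) (Fin n) F) = 1) :
    ∀ u ∈ LinearMap.range (Pr a).mulVecLin, u ≠ 0 →
      ∃ v ∈ LinearMap.range (Pr a).mulVecLin, Cfsg.hermForm n F q u v ≠ 0 := by
  have hh := UnitPow.isUnitaryForm_hermForm hF n
  rintro _ ⟨w, rfl⟩ hu
  obtain ⟨x, hx⟩ := (hh.nondegenerate _ hu).2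
  refine ⟨Pr a *ᵥ x, ⟨x, rfl⟩, ?_⟩
  have hP : Pr a * Pr a = Pr a := by
    unfold CfsgLib.CliffMax93.Pr CfsgLib.CliffMax93.mt
    rw [smul_mul_smul_comm]
    simp only [add_mul, mul_add, one_mul, mul_one, ha]
    rw [show (1 : Matrix (Fin n) (Fin n) F) + (a : Matrix (Fin n) (Fin n) F) + ((a : Matrix (Fin n) (Fin n) F) + 1) =
      (2 : F) • ((1 : Matrix (Fin n) (Fin n) F) + (a : Matrix (Fin n) (Fin n) F)) by rw [two_smul]; abel, smul_smul]
    congr 1; field_simp
  have hA : adj q (Pr a) = Pr a := adj_Pr hF hg ha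
  show Cfsg.hermForm n F q (Pr a *ᵥ w) (Pr a *ᵥ x) ≠ 0
  rw [← congrArg (Pr a *ᵥ ·) rfl]
  nth_rw 2 [← hA]
  rw [← herm_adj hF, mulVec_mulVec, hP]
  exact hx

/-- An element anticommuting with `a` swaps its eigenspaces, so they have equal dimensions. -/
theorem finrank_fix (h2 : (2 : F) ≠ 0) {a b : GL (Fin n) F}
    (ha : (a : Matrix (Fin n) (Fin n) F) * (a : Matrix (Fin n) (Fin n) F) = 1)
    (hab : (a : Matrix (Fin n) (Fin n) F) * (b : Matrix (Fin n) (Fin n) F) =
      -((b : Matrix (Fin n) (Fin n) F) * (a : Matrix (Fin n) (Fin n) F))) :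
    2 * Module.finrank F (LinearMap.range (Pr a).mulVecLin) = n := by
  set A := (a : Matrix (Fin n) (Fin n) F)
  set U := LinearMap.range (Pr a).mulVecLin
  set W := LinearMap.range (Pm a).mulVecLin
  have hU : ∀ x, x ∈ U → A *ᵥ x = x := by
    rintro _ ⟨y, rfl⟩
    show A *ᵥ (Pr a *ᵥ y) = Pr a *ᵥ y
    rw [mulVec_mulVec]
    congr 1
    show A * ((1 / 2 : F) • (1 + A)) = (1 / 2 : F) • (1 + A)
    rw [mul_smul_comm, mul_add, mul_one, ha, add_comm]
  have hW : ∀ x, x ∈ W → A *ᵥ x = -x := by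
    rintro _ ⟨y, rfl⟩
    show A *ᵥ (Pm a *ᵥ y) = -(Pm a *ᵥ y)
    rw [mulVec_mulVec, ← neg_mulVec]
    congr 1
    show A * ((1 / 2 : F) • (1 - A)) = -((1 / 2 : F) • (1 - A))
    rw [mul_smul_comm, mul_sub, mul_one, ha, ← smul_neg, neg_sub]
  have hUW : IsCompl U W := by
    constructor
    · rw [Submodule.disjoint_def]
      intro x hx hx'
      have : (2 : F) • x = 0 := by
        rw [two_smul]; nth_rw 1 [← hU x hx]; rw [hW x hx', neg_add_cancel]
      exact (smul_eq_zero.1 this).resolve_left h2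
    · rw [codisjoint_iff, eq_top_iff]
      intro x _
      refine Submodule.mem_sup.2 ⟨Pr a *ᵥ x, ⟨x, rfl⟩, Pm a *ᵥ x, ⟨x, rfl⟩, ?_⟩
      rw [← add_mulVec, show Pr a + Pm a = 1 from ?_, one_mulVec]
      show (1 / 2 : F) • (1 + A) + (1 / 2 : F) • (1 - A) = 1
      rw [← smul_add, show (1 + A) + (1 - A) = (2 : F) • (1 : Matrix (Fin n) (Fin n) F) by rw [two_smul]; abel,
        smul_smul, one_div, inv_mul_cancel₀ h2, one_smul]
  have hsum := Submodule.finrank_add_eq_of_isCompl hUW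
  rw [Module.finrank_fintype_fun_eq_card, Fintype.card_fin] at hsum
  let L := Matrix.toLin' (b : Matrix (Fin n) (Fin n) F)
  have hinj : Function.Injective L := by
    intro x y hxy
    rw [Matrix.toLin'_apply, Matrix.toLin'_apply] at hxy
    rw [← CfsgLib.GeomClasses.gl_inv_mulVec_mulVec b x, hxy, CfsgLib.GeomClasses.gl_inv_mulVec_mulVec]
  have hP : (b : Matrix (Fin n) (Fin n) F) * Pr a = Pm a * (b : Matrix (Fin n) (Fin n) F) :=
    CfsgLib.CliffMax93.Pr_anti hab
  have hmap : U.map L = W := by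
    apply le_antisymm
    · rintro _ ⟨_, ⟨y, rfl⟩, rfl⟩
      refine ⟨(b : Matrix (Fin n) (Fin n) F) *ᵥ y, ?_⟩
      show Pm a *ᵥ _ = (b : Matrix (Fin n) (Fin n) F) *ᵥ (Pr a *ᵥ y)
      rw [mulVec_mulVec, mulVec_mulVec, hP]
    · rintro _ ⟨y, rfl⟩
      refine ⟨Pr a *ᵥ (((b⁻¹ : GL (Fin n) F) : Matrix (Fin n) (Fin n) F) *ᵥ y), ⟨_, rfl⟩, ?_⟩
      show (b : Matrix (Fin n) (Fin n) F) *ᵥ _ = Pm a *ᵥ y
      rw [mulVec_mulVec, hP, ← mulVec_mulVec, CfsgLib.GeomClasses.gl_mulVec_inv_mulVec]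
  have := (Submodule.equivMapOfInjective L hinj U).finrank_eq
  rw [hmap] at this
  omega

/-- The fixed space of a unitary involution has an isometric embedding. -/
theorem exists_emb (hF : Fintype.card F = q ^ 2) (h2 : (2 : F) ≠ 0) {a b : GL (Fin n) F}
    (hg : a ∈ Cfsg.GU n F q) (ha : (a : Matrix (Fin n) (Fin n) F) * (a : Matrix (Fin n) (Fin n) F) = 1)
    (hab : (a : Matrix (Fin n) (Fin n) F) * (b : Matrix (Fin n) (Fin n) F) =
      -((b : Matrix (Fin n) (Fin n) F) * (a : Matrix (Fin n) (Fin n) F))) (hm : 2 * m = n) :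
    ∃ J : Matrix (Fin n) (Fin m) F, Emb q a J := by
  obtain ⟨f, -, hfr, hff⟩ := PrimeElusive.UnitFix.exists_std_sub (m := m) hF (W := LinearMap.range (Pr a).mulVecLin)
    (by have := finrank_fix h2 ha hab; omega) (fix_nondeg hF h2 hg ha)
  set J := LinearMap.toMatrix' f with hJ
  have hJv : ∀ x, J *ᵥ x = f x := fun x => by rw [hJ, LinearMap.toMatrix'_mulVec]
  have hiso : adj q J * J = 1 := by
    refine eq_of_herm hF _ _ fun x y => ?_
    rw [← mulVec_mulVec, one_mulVec, herm_adj hF, adj_adj hF, hJv, hJv]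
    exact hff x y
  refine ⟨J, hiso, ?_⟩
  have hfix : Pr a * J = J := by
    refine Matrix.ext_of_mulVec_single fun j => ?_
    obtain ⟨y, hy⟩ : f (Pi.single j 1) ∈ LinearMap.range (Pr a).mulVecLin := hfr ▸ LinearMap.mem_range_self f _
    rw [← mulVec_mulVec, hJv, ← hy, Matrix.mulVecLin_apply, mulVec_mulVec]
    congr 1
    show ((1 / 2 : F) • (1 + (a : Matrix (Fin n) (Fin n) F))) * ((1 / 2 : F) • (1 + (a : Matrix (Fin n) (Fin n) F))) =
      (1 / 2 : F) • (1 + (a : Matrix (Fin n) (Fin n) F))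
    rw [smul_mul_smul_comm]
    simp only [add_mul, mul_add, one_mul, mul_one, ha]
    rw [show (1 : Matrix (Fin n) (Fin n) F) + (a : Matrix (Fin n) (Fin n) F) + ((a : Matrix (Fin n) (Fin n) F) + 1) =
      (2 : F) • ((1 : Matrix (Fin n) (Fin n) F) + (a : Matrix (Fin n) (Fin n) F)) by rw [two_smul]; abel, smul_smul]
    congr 1; field_simp
  have key : J * adj q J * Pr a = Pr a := by
    refine Matrix.ext_of_mulVec_single fun k => ?_
    obtain ⟨z, hz⟩ : Pr a *ᵥ Pi.single k 1 ∈ LinearMap.range f := hfr.symm ▸ ⟨_, rfl⟩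
    rw [← mulVec_mulVec, ← hz, ← hJv, mulVec_mulVec, Matrix.mul_assoc, hiso, Matrix.mul_one]
  have hadjP : adj q J * Pr a = adj q J := by
    have h1 := congrArg (adj q) hfix
    rw [adj_mul hF] at h1
    rw [adj_Pr hF hg ha] at h1; exact h1
  rw [← hadjP, ← Matrix.mul_assoc, key]

/-- Unitarity of a square matrix on any index set. -/
def IsUni (q : ℕ) {α : Type} [Fintype α] [DecidableEq α] (M : Matrix α α F) : Prop := adj q M * M = 1

/-- Orthonormal coordinates adapted to an anticommuting pair of unitary involutions. -/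
theorem exists_unitary_std (hF : Fintype.card F = q ^ 2) {R : Subgroup (GL (Fin n) F)} {i : F}
    (hC : Cliff R i) (hm : 2 * m = n) (hRU : R ≤ Cfsg.GU n F q) {a b : GL (Fin n) F} (ha : a ∈ R) (hb : b ∈ R)
    (ha2 : (a : Matrix (Fin n) (Fin n) F) * (a : Matrix (Fin n) (Fin n) F) = 1)
    (hb2 : (b : Matrix (Fin n) (Fin n) F) * (b : Matrix (Fin n) (Fin n) F) = 1)
    (hab : CfsgLib.CliffMax93.bt a b = -1) :
    ∃ Φ : Matrix (Fin n) (Fin n) F ≃ₐ[F] Matrix (Fin m ⊕ Fin m) (Fin m ⊕ Fin m) F,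
      (∀ M, (Φ M).det = M.det) ∧
      (∀ g : GL (Fin n) F, g ∈ Cfsg.GU n F q ↔ IsUni q (Φ (g : Matrix (Fin n) (Fin n) F))) ∧
      CfsgLib.CliffMax93.Std (R.map (CfsgLib.CliffMax93.glMap Φ).toMonoidHom) i
        (CfsgLib.CliffMax93.glMap Φ a) (CfsgLib.CliffMax93.glMap Φ b) ∧
      (Cfsg.Geo.ActsIrreducibly (Cfsg.Geo.matrixSet R) →
        Cfsg.Geo.ActsIrreducibly (Cfsg.Geo.matrixSet (R.map (CfsgLib.CliffMax93.glMap Φ).toMonoidHom))) := by
  classical
  have hab' : (a : Matrix (Fin n) (Fin n) F) * (b : Matrix (Fin n) (Fin n) F) =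
      -((b : Matrix (Fin n) (Fin n) F) * (a : Matrix (Fin n) (Fin n) F)) := by
    have := hC.mul_bt ha hb
    rwa [hab, neg_one_smul] at this
  obtain ⟨J, hJ⟩ := exists_emb hF hC.two (hRU ha) ha2 hab' hm
  set A := (a : Matrix (Fin n) (Fin n) F) with hA
  set B := (b : Matrix (Fin n) (Fin n) F) with hB
  have hP : B * Pr a = Pm a * B := CfsgLib.CliffMax93.Pr_anti hab'
  have hadjB : adj q B = B := adj_involution hF (hRU hb) hb2
  have hPP : Pr a + Pm a = 1 := CfsgLib.CliffMax93.Pr_add_Pm hC a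
  have hPrJ : Pr a * J = J := by rw [← hJ.proj, Matrix.mul_assoc, hJ.iso, Matrix.mul_one]
  have hAJ : A * J = J := by
    rw [← hPrJ, ← Matrix.mul_assoc]
    congr 1
    show A * ((1 / 2 : F) • (1 + A)) = (1 / 2 : F) • (1 + A)
    rw [mul_smul_comm, mul_add, mul_one, ha2, add_comm]
  have hABJ : A * (B * J) = -(B * J) := by
    rw [← Matrix.mul_assoc, hab', Matrix.neg_mul, Matrix.mul_assoc, hAJ]
  let P : Matrix (Fin n) (Fin m ⊕ Fin m) F := Matrix.fromCols J (B * J)
  let P' : Matrix (Fin m ⊕ Fin m) (Fin n) F := Matrix.fromRows (adj q J) (adj q J * B)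
  have hJBJ : adj q J * (B * J) = 0 := by
    have h1 : adj q J * Pr a = adj q J := by
      rw [← hJ.proj, ← Matrix.mul_assoc, hJ.iso, Matrix.one_mul]
    have h2 : Pr a * (B * J) = 0 := by
      calc Pr a * (B * J) = Pr a * (B * Pr a) * J := by
            rw [Matrix.mul_assoc (Pr a), Matrix.mul_assoc B, hPrJ]
        _ = Pr a * (Pm a * B) * J := by rw [hP]
        _ = 0 := by rw [← Matrix.mul_assoc (Pr a), CfsgLib.CliffMax93.Pr_mul_Pm ha2, Matrix.zero_mul, Matrix.zero_mul]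
    rw [← h1, Matrix.mul_assoc, h2, Matrix.mul_zero]
  have hP'P : P' * P = 1 := by
    rw [Matrix.fromRows_mul_fromCols, Matrix.mul_assoc (adj q J) B J, Matrix.mul_assoc (adj q J) B (B * J), hJ.iso, hJBJ, ← Matrix.mul_assoc B B J, hb2,
      Matrix.one_mul, hJ.iso, fromBlocks_one]
  have hPP' : P * P' = 1 := by
    rw [Matrix.fromCols_mul_fromRows, hJ.proj, Matrix.mul_assoc B, ← Matrix.mul_assoc J, hJ.proj,
      ← Matrix.mul_assoc, hP, Matrix.mul_assoc, hb2, Matrix.mul_one, hPP]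
  let Φ : Matrix (Fin n) (Fin n) F ≃ₐ[F] Matrix (Fin m ⊕ Fin m) (Fin m ⊕ Fin m) F :=
    AlgEquiv.ofLinearEquiv
      { toFun := fun M => P' * M * P
        invFun := fun M => P * M * P'
        map_add' := fun M N => by rw [Matrix.mul_add, Matrix.add_mul]
        map_smul' := fun c M => by simp
        left_inv := fun M => by
          show P * (P' * M * P) * P' = M
          simp only [← Matrix.mul_assoc, hPP', Matrix.one_mul]
          rw [Matrix.mul_assoc, hPP', Matrix.mul_one]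
        right_inv := fun M => by
          show P' * (P * M * P') * P = M
          simp only [← Matrix.mul_assoc, hP'P, Matrix.one_mul]
          rw [Matrix.mul_assoc, hP'P, Matrix.mul_one] }
      (by show P' * (1 : Matrix (Fin n) (Fin n) F) * P = 1; rw [Matrix.mul_one, hP'P])
      (fun M N => by
        show P' * (M * N) * P = P' * M * P * (P' * N * P)
        simp only [Matrix.mul_assoc]
        rw [← Matrix.mul_assoc P P', hPP', Matrix.one_mul])
  have hΦ : ∀ M, Φ M = P' * M * P := fun M => rfl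
  have hadjP : adj q P = P' := by
    ext x y
    rcases x with x | x
    · rfl
    · show (B * J) y x ^ q = (adj q J * B) x y
      have e := congrFun (congrFun (adj_mul hF B J) x) y
      rw [hadjB] at e
      exact e
  refine ⟨Φ, fun M => ?_, fun g => ?_, ?_, ?_⟩
  · rw [hΦ]
    let e := Fintype.equivOfCardEq (α := Fin m ⊕ Fin m) (β := Fin n) (by simp; omega)
    have h1 : (P'.submatrix e.symm id).det * (P.submatrix id e.symm).det = 1 := by
      rw [← det_mul, ← Matrix.submatrix_mul _ _ _ _ _ Function.bijective_id, hP'P,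
        Matrix.submatrix_one_equiv, det_one]
    rw [← Matrix.det_submatrix_equiv_self e.symm (P' * M * P),
      Matrix.submatrix_mul _ _ _ id _ Function.bijective_id,
      Matrix.submatrix_mul _ _ _ id _ Function.bijective_id, Matrix.submatrix_id_id, det_mul, det_mul]
    linear_combination M.det * h1
  · rw [mem_GU_iff_adj hF, IsUni, hΦ]
    set G := (g : Matrix (Fin n) (Fin n) F)
    have e : adj q (P' * G * P) * (P' * G * P) = Φ (adj q G * G) := by
      rw [hΦ, adj_mul hF, adj_mul hF, hadjP, show adj q P' = P by rw [← hadjP, adj_adj hF]]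
      simp only [Matrix.mul_assoc]
      rw [← Matrix.mul_assoc P P', hPP', Matrix.one_mul]
    rw [e]
    exact ⟨fun h => by rw [h, map_one], fun h => Φ.injective (by rw [h, map_one])⟩
  · refine ⟨hC.map Φ (by simp; omega), ⟨a, ha, rfl⟩, ⟨b, hb, rfl⟩, ?_, ?_⟩
    · show P' * A * P = _
      rw [Matrix.mul_assoc, Matrix.mul_fromCols, hAJ, hABJ, Matrix.fromRows_mul_fromCols, Matrix.mul_assoc _ B J,
        hJ.iso, hJBJ, Matrix.mul_neg, hJBJ, neg_zero, Matrix.mul_neg,
        Matrix.mul_assoc (adj q J) B (B * J), ← Matrix.mul_assoc B B J, hb2, Matrix.one_mul, hJ.iso]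
    · show P' * B * P = _
      rw [Matrix.mul_assoc, Matrix.mul_fromCols, ← Matrix.mul_assoc B B J, hb2, Matrix.one_mul,
        Matrix.fromRows_mul_fromCols, hJBJ, hJ.iso, Matrix.mul_assoc _ B (B * J), ← Matrix.mul_assoc B B J, hb2,
        Matrix.one_mul, hJ.iso, Matrix.mul_assoc _ B J, hJBJ]
  · intro hirr W' hW'
    rcases hirr (W'.map (Matrix.toLin' P)) (by
      rintro _ ⟨r, hr, rfl⟩ _ ⟨_, ⟨v, hv, rfl⟩, rfl⟩
      refine ⟨Matrix.toLin' (Φ (r : Matrix (Fin n) (Fin n) F)) v,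
        hW' _ ⟨CfsgLib.CliffMax93.glMap Φ r, ⟨r, hr, rfl⟩, rfl⟩ ⟨v, hv, rfl⟩, ?_⟩
      simp only [Matrix.toLin'_apply, mulVec_mulVec, hΦ]
      rw [← Matrix.mul_assoc, ← Matrix.mul_assoc, hPP', Matrix.one_mul]) with h | h
    · left
      rw [eq_bot_iff]
      intro v hv
      have h1 : P *ᵥ v = 0 := (Submodule.mem_bot F).1 (h ▸ ⟨v, hv, Matrix.toLin'_apply P v⟩)
      rw [Submodule.mem_bot, ← one_mulVec v, ← hP'P, ← mulVec_mulVec, h1, mulVec_zero]
    · right
      rw [eq_top_iff]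
      intro v _
      obtain ⟨w, hw, hwv⟩ : P *ᵥ v ∈ W'.map (Matrix.toLin' P) := h ▸ Submodule.mem_top
      rw [Matrix.toLin'_apply] at hwv
      rw [← one_mulVec v, ← hP'P, ← mulVec_mulVec, ← hwv, mulVec_mulVec, hP'P, one_mulVec]
      exact hw

end CfsgLib.CliffSU8
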