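import Cfsg.Agent.Lib.CliffSU8.Small
import Cfsg.Agent.Lib.CliffSU8.Endgame
import Cfsg.Agent.Lib.CliffSU8.Construct
import Cfsg.Agent.Lib.CliffMax93.ControlMain

/-!
The normaliser of a symplectic-type group of order 256 is maximal in `SU₈`.
-/

set_option autoImplicit false
set_option linter.unusedSectionVars false

namespace CfsgLib.CliffSU8

open Matrix Cfsg Cfsg.Geo
open CfsgLib.CliffMax93
open scoped MatrixGroups

variable {F : Type*} [Field F] [Fintype F] {q n : ℕ}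

local notation "K₈" => Cfsg.GU 8 F q ⊓ Cfsg.Geo.specialLinear (Fin 8) F

/-- A non-zero self-adjoint idempotent fixes a non-isotropic vector. -/
theorem exists_aniso_fix (hF : Fintype.card F = q ^ 2) {Q : Matrix (Fin n) (Fin n) F} (hQ : Q * Q = Q)
    (hadj : adj q Q = Q) (h0 : Q ≠ 0) : ∃ v, Q *ᵥ v = v ∧ Cfsg.hermForm n F q v v ≠ 0 := by
  have hh := CfsgLib.GeomClasses.UnitPow.isUnitaryForm_hermForm hF n
  have hfix : ∀ w ∈ LinearMap.range Q.mulVecLin, Q *ᵥ w = w := by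
    rintro _ ⟨v, rfl⟩
    rw [Matrix.mulVecLin_apply, mulVec_mulVec, hQ]
  have hnd : IsNondegenerateOn (Cfsg.hermForm n F q) (LinearMap.range Q.mulVecLin) := by
    intro w hw hw0
    obtain ⟨x, hx⟩ := (hh.nondegenerate w hw0).2
    have h1 : Cfsg.hermForm n F q w (Q *ᵥ x) ≠ 0 := by
      nth_rw 1 [← hadj]
      rwa [← herm_adj hF, hfix w hw]
    exact ⟨⟨Q *ᵥ x, ⟨x, rfl⟩, fun e => h1 (CfsgLib.GeomClasses.Unit.eq_zero_comm hh e)⟩, Q *ᵥ x, ⟨x, rfl⟩, h1⟩
  obtain ⟨w, hw0⟩ : ∃ w, Q *ᵥ w ≠ 0 := by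
    by_contra hall
    push Not at hall
    exact h0 (Matrix.ext_of_mulVec_single fun j => by rw [hall, zero_mulVec])
  obtain ⟨v, hv, hvv⟩ := CfsgLib.GeomClasses.UnitPow.exists_nonisotropic hh hnd
    (show Q *ᵥ w ∈ LinearMap.range Q.mulVecLin from ⟨w, rfl⟩) hw0
  exact ⟨v, hfix v hv, hvv⟩

/-- `X` contains the special unitary elements living on the fixed space of the involution `a`. -/
def FullAt (X : Subgroup (GL (Fin n) F)) (q : ℕ) (a : GL (Fin n) F) : Prop :=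
  ∀ g : GL (Fin n) F, g ∈ Cfsg.GU n F q ⊓ Cfsg.Geo.specialLinear (Fin n) F → g * a = a * g →
    CfsgLib.CliffMax93.mt g * Pm a = Pm a → g ∈ X

theorem Pm_conj (m a : GL (Fin n) F) :
    Pm (m * a * m⁻¹) = CfsgLib.CliffMax93.mt m * Pm a * ((m⁻¹ : GL (Fin n) F) : Matrix (Fin n) (Fin n) F) := by
  unfold Pm
  rw [mt_conj, mul_smul_comm, smul_mul_assoc, mul_sub, sub_mul, mul_one, Units.mul_inv]

/-- Conjugation moves the property. -/
theorem FullAt.conj {X : Subgroup (GL (Fin n) F)} {a m : GL (Fin n) F} (h : FullAt X q a) (hm : m ∈ X)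
    (hmK : m ∈ Cfsg.GU n F q ⊓ Cfsg.Geo.specialLinear (Fin n) F) : FullAt X q (m * a * m⁻¹) := by
  intro g hg hga hgP
  have hX : m⁻¹ * g * m ∈ X := by
    refine h _ (mul_mem (mul_mem (inv_mem hmK) hg) hmK) ?_ ?_
    · calc m⁻¹ * g * m * a = m⁻¹ * (g * (m * a * m⁻¹)) * m := by group
        _ = a * (m⁻¹ * g * m) := by rw [hga]; group
    · have e : CfsgLib.CliffMax93.mt (m⁻¹ * g * m) * Pm a =
          ((m⁻¹ : GL (Fin n) F) : Matrix (Fin n) (Fin n) F) *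
            (CfsgLib.CliffMax93.mt g * Pm (m * a * m⁻¹)) * CfsgLib.CliffMax93.mt m := by
        rw [Pm_conj]
        simp only [CfsgLib.CliffMax93.mt, Units.val_mul, mul_assoc, Units.inv_mul, mul_one]
      rw [e, hgP, Pm_conj]
      simp only [CfsgLib.CliffMax93.mt, mul_assoc, Units.inv_mul, mul_one]
      rw [← mul_assoc, Units.inv_mul, one_mul]
  have := mul_mem (mul_mem hm hX) (inv_mem hm)
  rwa [show m * (m⁻¹ * g * m) * m⁻¹ = g by group] at this

/-- The subspace form of the property. -/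
theorem FullAt.full {R : Subgroup (GL (Fin n) F)} {i : F} (hC : Cliff R i) {X : Subgroup (GL (Fin n) F)}
    {a : GL (Fin n) F} (ha2 : CfsgLib.CliffMax93.mt a * CfsgLib.CliffMax93.mt a = 1) (h : FullAt X q a) :
    Full X q (LinearMap.range (Pr a).mulVecLin) (LinearMap.range (Pm a).mulVecLin) := by
  intro g hg hgU hgW
  have e1 : CfsgLib.CliffMax93.mt g * Pm a = Pm a :=
    Matrix.ext_of_mulVec_single fun j => by rw [← mulVec_mulVec]; exact hgW _ ⟨_, rfl⟩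
  refine h g hg ?_ e1
  have e2 : Pr a * (CfsgLib.CliffMax93.mt g * Pr a) = CfsgLib.CliffMax93.mt g * Pr a :=
    Matrix.ext_of_mulVec_single fun j => by
      obtain ⟨w, hw⟩ := hgU _ (⟨Pi.single j 1, rfl⟩ : Pr a *ᵥ Pi.single j 1 ∈ LinearMap.range (Pr a).mulVecLin)
      rw [Matrix.mulVecLin_apply] at hw
      rw [← mulVec_mulVec, ← mulVec_mulVec, ← hw, mulVec_mulVec, Pr_mul_Pr hC ha2]
  have e3 : Pr a * CfsgLib.CliffMax93.mt g = CfsgLib.CliffMax93.mt g * Pr a := by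
    conv_lhs => rw [← mul_one (CfsgLib.CliffMax93.mt g), ← Pr_add_Pm hC a, mul_add, e1, mul_add, e2, Pr_mul_Pm ha2,
      add_zero]
  unfold Pr at e3
  rw [smul_mul_assoc, mul_smul_comm, (smul_right_injective _ (one_div_ne_zero hC.two)).eq_iff, add_mul, mul_add,
    one_mul, mul_one, add_right_inj] at e3
  exact Units.ext (by simp only [Units.val_mul]; exact e3.symm)

/-- The transvection lifts have determinant one in dimension eight. -/
theorem det_isT_eight (hF : Fintype.card F = q ^ 2) {R : Subgroup (GL (Fin 8) F)} {i : F} (hC : Cliff R i)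
    (hRU : R ≤ Cfsg.GU 8 F q) {t s : GL (Fin 8) F} (hs : s ∈ R) (hs1 : pg s ≠ 1)
    (hs2 : CfsgLib.CliffMax93.mt s * CfsgLib.CliffMax93.mt s = 1) (ht : IsT i t s) :
    (CfsgLib.CliffMax93.mt t).det = 1 := by
  obtain ⟨b₀, hb₀, hb⟩ := hC.exists_anti hs1
  obtain ⟨b, hbR, hbb, hb2⟩ := hC.exists_lift_one hb₀
  have hsb : bt s b = -1 := by rw [hC.bt_congr hs hs hbR hb₀ rfl hbb]; exact hb
  obtain ⟨Φ, hdet, -, S, -⟩ := exists_unitary_std (m := 4) hF hC rfl hRU hs hbR hs2 hb2 hsb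
  have hs' : Φ (CfsgLib.CliffMax93.mt s) = fromBlocks 1 0 0 (-1) := S.aval
  rw [← hdet, show CfsgLib.CliffMax93.mt t = _ from ht, Tm, map_add, map_smul, map_smul, map_one, hs',
    ← fromBlocks_one, fromBlocks_smul, fromBlocks_smul, fromBlocks_add]
  simp only [smul_zero, add_zero, smul_neg, ← neg_smul, ← add_smul]
  rw [det_fromBlocks_zero₂₁, det_smul, det_smul, det_one, mul_one, mul_one, Fintype.card_fin]
  have h2 := hC.two
  rw [show (1 + i) / 2 + (1 - i) / 2 = 1 by field_simp; ring,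
    show (1 + i) / 2 + -((1 - i) / 2) = i by field_simp; ring, one_pow, one_mul]
  exact i_pow_four hC

theorem isT_mem_K (hF : Fintype.card F = q ^ 2) {R : Subgroup (GL (Fin 8) F)} {i : F} (hC : Cliff R i)
    (hRU : R ≤ Cfsg.GU 8 F q) {t s : GL (Fin 8) F} (hs : s ∈ R) (hs1 : pg s ≠ 1)
    (hs2 : CfsgLib.CliffMax93.mt s * CfsgLib.CliffMax93.mt s = 1) (ht : IsT i t s) : t ∈ K₈ :=
  ⟨isT_mem_GU hF hC hRU ht hs hs2,
    CfsgLib.GeomClasses.mem_specialLinear.2 (det_isT_eight hF hC hRU hs hs1 hs2 ht)⟩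

/-- A gate fills the fixed space. -/
theorem fullAt_of_good (hF : Fintype.card F = q ^ 2) (hsmall : SmallMax F q) {R X : Subgroup (GL (Fin 8) F)} {i : F}
    (hC : Cliff R i) (hirr : ActsIrreducibly (matrixSet R)) (hRU : R ≤ Cfsg.GU 8 F q)
    (hNX : Cfsg.Geo.subgroupNormalizer R ⊓ K₈ ≤ X) (hXK : X ≤ K₈) {a b x : GL (Fin 8) F} (hb : b ∈ R)
    (hb2 : CfsgLib.CliffMax93.mt b * CfsgLib.CliffMax93.mt b = 1) (hab : bt a b = -1) (hg : Good R X a x) :
    FullAt X q a := by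
  obtain ⟨haR, ha1, ha2, hxX, hxa, r, hr, hra, hbad⟩ := hg
  obtain ⟨Φ, hdet, hU, S, hir⟩ := exists_unitary_std (m := 4) hF hC rfl hRU haR hb ha2 hb2 hab
  set Ψ := glMap Φ with hΨ
  set R' := R.map Ψ.toMonoidHom with hR'
  set X' := X.map Ψ.toMonoidHom with hX'
  have hPr : ∀ g : GL (Fin 8) F, Pr (Ψ g) = Φ (Pr g) := fun g => by
    unfold Pr; rw [map_smul, map_add, map_one, hΨ, mt_glMap]
  have hPm : ∀ g : GL (Fin 8) F, Pm (Ψ g) = Φ (Pm g) := fun g => by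
    unfold Pm; rw [map_smul, map_sub, map_one, hΨ, mt_glMap]
  have hgood : Good R' X' (Ψ a) (Ψ x) := by
    refine ⟨⟨a, haR, rfl⟩, fun e => ha1 ?_, ?_, ⟨x, hxX, rfl⟩, by rw [← map_mul, ← map_mul, hxa],
      Ψ r, ⟨r, hr, rfl⟩, by rw [← map_mul, ← map_mul, hra], ?_⟩
    · rw [← map_one pg]
      exact (pg_glMap_eq_iff Φ a 1).1 (by rw [map_one, map_one]; exact e)
    · rw [hΨ, mt_glMap, ← map_mul, ha2, map_one]
    · rintro _ ⟨r', hr', rfl⟩ hcomm c e
      refine hbad r' hr' (Ψ.injective (by rw [map_mul, map_mul]; exact hcomm)) c (Φ.injective ?_)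
      rw [map_mul, map_smul, map_mul, ← mt_glMap, ← hΨ, ← hPr, map_mul Ψ, map_mul Ψ, map_inv]
      exact e
  have hirr' := hir hirr
  have hRU' : ∀ g ∈ R', IsUni q (CfsgLib.CliffMax93.mt g) := by
    rintro _ ⟨g, hg, rfl⟩
    exact (hU g).1 (hRU hg)
  have hN' : ∀ g ∈ Subgroup.normalizer (R' : Set (GL (Fin 4 ⊕ Fin 4) F)), IsUni q (CfsgLib.CliffMax93.mt g) →
      (CfsgLib.CliffMax93.mt g).det = 1 → g ∈ X' := by
    intro g hgN hgU hgd
    obtain ⟨g₀, rfl⟩ := Ψ.surjective g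
    refine ⟨g₀, hNX ⟨mem_normalizer_of_conj fun p hp => ?_, (hU g₀).2 hgU,
      CfsgLib.GeomClasses.mem_specialLinear.2 ((hdet _).symm.trans hgd)⟩, rfl⟩
    obtain ⟨p', hp', e⟩ := (Subgroup.mem_normalizer_iff.1 hgN (Ψ p)).1 ⟨p, hp, rfl⟩
    have e' : p' = g₀ * p * g₀⁻¹ := Ψ.injective (by rw [map_mul, map_mul, map_inv]; exact e)
    exact e' ▸ hp'
  have hXU' : ∀ g ∈ X', IsUni q (CfsgLib.CliffMax93.mt g) := by
    rintro _ ⟨g, hg, rfl⟩
    exact (hU g).1 (hXK hg).1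
  have hfull := dd_SU_mem hF hsmall S hirr' hRU' hN' hXU' hgood
  intro g hgK hga hgP
  obtain ⟨⟨A, D⟩, hp⟩ := (S.comm_iff (Ψ g)).1 (by rw [← map_mul, ← map_mul, hga])
  have h2 := hC.two
  have hPm' : Pm (Ψ a) = fromBlocks 0 0 0 1 := by
    unfold Pm
    rw [S.aval, ← fromBlocks_one, sub_eq_add_neg, fromBlocks_neg, fromBlocks_add, fromBlocks_smul]
    congr 1
    · simp
    · simp
    · simp
    · rw [neg_neg, ← two_smul F (1 : Matrix (Fin 4) (Fin 4) F), smul_smul, one_div, inv_mul_cancel₀ h2, one_smul]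
  have e1 : CfsgLib.CliffMax93.mt (Ψ g) * Pm (Ψ a) = Pm (Ψ a) := by
    rw [hPm, hΨ, mt_glMap, ← map_mul, hgP]
  rw [hp, hPm', mt_dd, fromBlocks_multiply] at e1
  simp only [Matrix.mul_zero, Matrix.zero_mul, add_zero, zero_add, Matrix.mul_one, fromBlocks_inj, true_and] at e1
  have hD : D = 1 := Units.ext e1
  subst hD
  have hAU : A ∈ Cfsg.GU 4 F q := ((isUni_dd hF (A, 1)).1 (hp ▸ (hU g).1 hgK.1)).1
  have hAd : (CfsgLib.CliffMax93.mt A).det = 1 := by
    have h1 := (hdet (CfsgLib.CliffMax93.mt g)).trans (CfsgLib.GeomClasses.mem_specialLinear.1 hgK.2)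
    rw [← mt_glMap, ← hΨ, hp, det_dd] at h1
    simpa using h1
  obtain ⟨g', hg', e⟩ := hfull A ⟨hAU, CfsgLib.GeomClasses.mem_specialLinear.2 hAd⟩
  rw [← hp] at e
  exact (Ψ.injective e) ▸ hg'

/-- The normaliser of a symplectic-type group of order 256 and exponent 4 is maximal in `SU₈`. -/
theorem maximal (hF : Fintype.card F = q ^ 2) (hsmall : SmallMax F q) (h2 : (2 : F) ≠ 0)
    {R : Subgroup (GL (Fin 8) F)} (hs : IsSymplecticTypeGroup 2 R)
    (hirr : ActsAbsolutelyIrreducibly (matrixSet R)) (hRU : R ≤ Cfsg.GU 8 F q) (hc : Nat.card R = 256)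
    (hz : Nat.card (Subgroup.center R) = 4) :
    IsMaximalIn K₈ (Cfsg.Geo.subgroupNormalizer R ⊓ K₈) := by
  classical
  obtain ⟨i, hC⟩ := cliff_of_symplecticType (R := R) h2 (by
    rw [Fintype.card_fin, show ((8 : ℕ) : F) = (2 : F) ^ 3 by norm_num]
    exact pow_ne_zero _ h2) hs hirr (by rw [hc, Fintype.card_fin]; norm_num) hz
  have h4 : 4 ∣ Fintype.card (Fin 8) := by simp
  have hRK : R ≤ K₈ := fun r hr =>
    ⟨hRU hr, CfsgLib.GeomClasses.mem_specialLinear.2 (det_eq_one hC h4 hr)⟩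
  have hW : Nat.card (Wbar R) = 64 := by rw [show Wbar R = R.map pg from rfl, hC.card]; simp
  obtain ⟨r₀, hr₀, hr₀1⟩ : ∃ r ∈ R, pg r ≠ 1 := by
    by_contra hall
    push Not at hall
    have : Wbar R = ⊥ := (Subgroup.map_eq_bot_iff R).2 fun r hr => MonoidHom.mem_ker.2 (hall r hr)
    rw [this, Subgroup.card_bot] at hW
    omega
  refine ⟨lt_of_le_of_ne inf_le_right fun heq => ?_, fun X hNX hXK => ?_⟩
  · -- the normaliser is proper
    have hKN : K₈ ≤ Subgroup.normalizer (R : Set (GL (Fin 8) F)) := fun g hg => (heq.symm ▸ hg :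
      g ∈ Cfsg.Geo.subgroupNormalizer R ⊓ K₈).1
    let φ : Cfsg.SU 8 F q →* GL (Fin 8) F := Matrix.SpecialLinearGroup.toGL.comp (Cfsg.SU 8 F q).subtype
    have hφK : ∀ g : Cfsg.SU 8 F q, φ g ∈ K₈ := fun g =>
      ⟨g.2, CfsgLib.GeomClasses.mem_specialLinear.2 g.1.2⟩
    have hφsurj : ∀ g ∈ K₈, ∃ g' : Cfsg.SU 8 F q, φ g' = g := fun g hg =>
      ⟨⟨⟨_, CfsgLib.GeomClasses.mem_specialLinear.1 hg.2⟩, hg.1⟩, Units.ext rfl⟩
    have hnormal : (R.comap φ).Normal := ⟨fun g hg k => by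
      rw [Subgroup.mem_comap, map_mul, map_mul, map_inv]
      exact (Subgroup.mem_normalizer_iff.1 (hKN (hφK k)) _).1 hg⟩
    rcases CfsgLib.ClassicalGroups.normal_le_center_or_top hF (by norm_num) (by simp) (R.comap φ) hnormal with h | h
    · refine hr₀1 (hC.pg_eq_one_of_comm fun v hv => ?_)
      obtain ⟨r', hr'⟩ := hφsurj r₀ (hRK hr₀)
      obtain ⟨v', hv'⟩ := hφsurj v (hRK hv)
      have h1 := congrArg φ (Subgroup.mem_center_iff.1
        (h (show r' ∈ R.comap φ by rw [Subgroup.mem_comap, hr']; exact hr₀)) v')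
      rw [map_mul, map_mul, hr', hv'] at h1
      exact h1.symm
    · obtain ⟨s, hs', hsw, hs2⟩ := hC.exists_lift_one hr₀
      have hs1 : pg s ≠ 1 := hsw ▸ hr₀1
      obtain ⟨t, ht⟩ := exists_isT hC hs2
      obtain ⟨t', ht'⟩ := hφsurj t (isT_mem_K hF hC hRU hs' hs1 hs2 ht)
      have htR : t ∈ R := by
        have : t' ∈ R.comap φ := by rw [h]; exact Subgroup.mem_top t'
        rwa [Subgroup.mem_comap, ht'] at this
      apply hs1
      rw [← ht.sq hC hs2, map_mul, hC.pg_sq htR]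
  -- an intermediate group
  have hRX : R ≤ X := fun r hr => hNX ⟨Subgroup.le_normalizer hr, hRK hr⟩
  have hT : HasT R i X := fun s hs' hs1 hs2 => by
    obtain ⟨t, ht⟩ := exists_isT hC hs2
    exact ⟨t, hNX ⟨ht.mem_normalizer hC hs2 hs', isT_mem_K hF hC hRU hs' hs1 hs2 ht⟩, ht⟩
  by_cases hcent : CentCtrl R X
  · left
    refine le_antisymm (le_inf ?_ hXK) hNX
    exact le_normalizer_of_centCtrl hC (by simp) hT hRX hcent
  right
  unfold CentCtrl at hcent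
  push Not at hcent
  obtain ⟨u, hu, hu1, x₀, hx₀, hxu, hxN⟩ := hcent
  -- a gate
  obtain ⟨a, x, hgood⟩ : ∃ a x, Good R X a x := by
    obtain ⟨a, ha, hau, ha2⟩ := hC.exists_lift_one hu
    have ha1 : pg a ≠ 1 := hau ▸ hu1
    rcases hC.sign_of_pg_commute (g := x₀) (Or.inl ha2) (by rw [hau]; exact hxu) with h | h
    · exact exists_good hC (by omega) hT hRX ha ha1 ha2 hx₀ h hxN
    · obtain ⟨b₀, hb₀, hb⟩ := hC.exists_anti ha1
      refine exists_good hC (by omega) hT hRX ha ha1 ha2 (X.mul_mem (hRX hb₀) hx₀) (Units.ext ?_) fun hN => hxN ?_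
      · have h' := hC.mul_bt ha hb₀
        rw [hb, neg_one_smul] at h'
        simp only [Units.val_mul]
        change CfsgLib.CliffMax93.mt b₀ * CfsgLib.CliffMax93.mt x₀ * CfsgLib.CliffMax93.mt a =
          CfsgLib.CliffMax93.mt a * (CfsgLib.CliffMax93.mt b₀ * CfsgLib.CliffMax93.mt x₀)
        rw [mul_assoc, h, mul_neg, ← mul_assoc, ← mul_assoc, h', neg_mul]
      · simpa using mul_mem (inv_mem (Subgroup.le_normalizer hb₀ : b₀ ∈ _)) hN
  obtain ⟨haR, ha1, ha2, -⟩ := id hgood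
  obtain ⟨b₀, hb₀, hb₁⟩ := hC.exists_anti ha1
  obtain ⟨b, hbR, hbb, hb2⟩ := hC.exists_lift_one hb₀
  have hab : bt a b = -1 := by rw [hC.bt_congr haR haR hbR hb₀ rfl hbb]; exact hb₁
  have hab' : CfsgLib.CliffMax93.mt a * CfsgLib.CliffMax93.mt b =
      -(CfsgLib.CliffMax93.mt b * CfsgLib.CliffMax93.mt a) := by
    have := hC.mul_bt haR hbR; rwa [hab, neg_one_smul] at this
  have hbX : b ∈ X := hRX hbR
  have hbK : b ∈ K₈ := hRK hbR
  have hfull := fullAt_of_good hF hsmall hC hirr.1 hRU hNX hXK hbR hb2 hab hgood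
  have hfull' := hfull.conj hbX hbK
  -- the conjugate of `a` by `b` is its negative
  set a' := b * a * b⁻¹ with ha'
  have ha'R : a' ∈ R := R.mul_mem (R.mul_mem hbR haR) (R.inv_mem hbR)
  have ha'v : CfsgLib.CliffMax93.mt a' = -CfsgLib.CliffMax93.mt a := by
    rw [ha', mt_conj, show CfsgLib.CliffMax93.mt b * CfsgLib.CliffMax93.mt a =
      -(CfsgLib.CliffMax93.mt a * CfsgLib.CliffMax93.mt b) by rw [hab', neg_neg], neg_mul, mul_assoc, Units.mul_inv,
      mul_one]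
  have ha'2 : CfsgLib.CliffMax93.mt a' * CfsgLib.CliffMax93.mt a' = 1 := by rw [ha'v, neg_mul_neg, ha2]
  have hPr' : Pr a' = Pm a := by unfold Pr Pm; rw [ha'v, sub_eq_add_neg]
  have hPm' : Pm a' = Pr a := by unfold Pr Pm; rw [ha'v, sub_neg_eq_add]
  have ha'a : pg a' = pg a :=
    (pg_eq_iff _ _).2 ⟨-1, by rw [ha'v, neg_one_smul]⟩
  set U := LinearMap.range (Pr a).mulVecLin with hUdef
  set W := LinearMap.range (Pm a).mulVecLin with hWdef
  have h0 : Full X q U W := hfull.full hC ha2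
  have h1 : Full X q W U := by
    have := hfull'.full hC ha'2
    rwa [hPr', hPm'] at this
  -- the second decomposition
  obtain ⟨x₂, hx₂, hx₂o, hx₂a⟩ := exists_outside hC (Subgroup.zpowers (pg a))
    (by rw [Subgroup.zpowers_le]; exact ⟨a, haR, rfl⟩) (by
    rw [Nat.card_zpowers, orderOf_eq_prime (by rw [pow_two, hC.pg_sq haR]) ha1]; omega) haR
  have hx₂1 : pg x₂ ≠ 1 := fun e => hx₂o (e ▸ one_mem _)
  obtain ⟨s, s', t, t', hsR, hs'R, hs2, hs'2, ht, ht', hdm, hmN, hm⟩ := exists_move_two hC h4 haR hx₂ ha1 hx₂1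
  set m := t' * t with hmdef
  have hmK : m ∈ K₈ := ⟨mul_mem (isT_mem_GU hF hC hRU ht' hs'R hs'2) (isT_mem_GU hF hC hRU ht hsR hs2),
    CfsgLib.GeomClasses.mem_specialLinear.2 hdm⟩
  have hmX : m ∈ X := hNX ⟨hmN, hmK⟩
  set a₂ := m * a * m⁻¹ with ha₂
  have ha₂R : a₂ ∈ R := (Subgroup.mem_normalizer_iff.1 hmN a).1 haR
  have ha₂2 : CfsgLib.CliffMax93.mt a₂ * CfsgLib.CliffMax93.mt a₂ = 1 := by
    rw [← Units.val_mul, ha₂, show m * a * m⁻¹ * (m * a * m⁻¹) = m * (a * a) * m⁻¹ by group,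
      show a * a = 1 from Units.ext (by rw [Units.val_mul]; exact ha2), mul_one, mul_inv_cancel, Units.val_one]
  have hne : pg a₂ ≠ pg a := fun e => hx₂o (by rw [← hm, e]; exact Subgroup.mem_zpowers _)
  have ha₂1 : pg a₂ ≠ 1 := fun e => hx₂1 (by rw [← hm, e])
  have hca : a * a₂ = a₂ * a := by
    refine (bt_comm_iff hC a a₂).1 ?_
    rw [hC.bt_congr haR haR ha₂R hx₂ rfl hm]; exact hx₂a
  have hP2 : Full X q (LinearMap.range (Pr a₂).mulVecLin) (LinearMap.range (Pm a₂).mulVecLin) :=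
    (hfull.conj hmX hmK).full hC ha₂2
  -- projections
  have hperp : ∀ c : GL (Fin 8) F, c ∈ R → CfsgLib.CliffMax93.mt c * CfsgLib.CliffMax93.mt c = 1 →
      ∀ v ∈ LinearMap.range (Pr c).mulVecLin, ∀ w ∈ LinearMap.range (Pm c).mulVecLin,
        Cfsg.hermForm 8 F q v w = 0 := by
    rintro c hcR hc2 _ ⟨v, rfl⟩ _ ⟨w, rfl⟩
    rw [Matrix.mulVecLin_apply, Matrix.mulVecLin_apply, herm_adj hF, adj_Pr hF (hRU hcR) hc2, mulVec_mulVec,
      Pr_mul_Pm hc2, zero_mulVec]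
    simp only [Cfsg.hermForm, Pi.zero_apply]
    refine Finset.sum_eq_zero fun k _ => ?_
    rw [zero_pow (by have := CfsgLib.GeomClasses.UnitPow.two_le hF; omega), mul_zero]
  have hfixP : ∀ c : GL (Fin 8) F, CfsgLib.CliffMax93.mt c * CfsgLib.CliffMax93.mt c = 1 →
      ∀ v ∈ LinearMap.range (Pr c).mulVecLin, Pr c *ᵥ v = v ∧ CfsgLib.CliffMax93.mt c *ᵥ v = v := by
    rintro c hc2 _ ⟨v, rfl⟩
    refine ⟨by rw [Matrix.mulVecLin_apply, mulVec_mulVec, Pr_mul_Pr hC hc2], ?_⟩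
    rw [Matrix.mulVecLin_apply, mulVec_mulVec]
    congr 1
    unfold Pr
    rw [mul_smul_comm, mul_add, mul_one, hc2, add_comm]
  have hcompl : IsCompl U W := by
    constructor
    · rw [Submodule.disjoint_def]
      intro v hv hv'
      obtain ⟨w, hw⟩ := hv'
      rw [← (hfixP a ha2 v hv).1, ← hw, Matrix.mulVecLin_apply, mulVec_mulVec, Pr_mul_Pm ha2, zero_mulVec]
    · rw [codisjoint_iff, eq_top_iff]
      intro v _
      exact Submodule.mem_sup.2 ⟨Pr a *ᵥ v, ⟨v, rfl⟩, Pm a *ᵥ v, ⟨v, rfl⟩, by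
        rw [← add_mulVec, Pr_add_Pm hC, one_mulVec]⟩
  -- two non-isotropic vectors
  have haniso : ∀ c : GL (Fin 8) F, c ∈ R → CfsgLib.CliffMax93.mt c * CfsgLib.CliffMax93.mt c = 1 → pg c = pg a →
      c * a₂ = a₂ * c → ∃ v, v ∈ LinearMap.range (Pr c).mulVecLin ∧
        v ∈ LinearMap.range (Pr a₂).mulVecLin ∧ Cfsg.hermForm 8 F q v v ≠ 0 := by
    intro c hcR hc2 hca' hcc
    have hcomm : Pr c * Pr a₂ = Pr a₂ * Pr c := by
      unfold Pr
      rw [smul_mul_smul_comm, smul_mul_smul_comm]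
      simp only [add_mul, mul_add, one_mul, mul_one, comm_mt hcc]
      abel_nf
    obtain ⟨v, hv, hvv⟩ := exists_aniso_fix (Q := Pr c * Pr a₂) hF (by
      rw [mul_assoc, ← mul_assoc (Pr a₂), ← hcomm, mul_assoc (Pr c) (Pr a₂), Pr_mul_Pr hC ha₂2, ← mul_assoc,
        Pr_mul_Pr hC hc2]) (by
      rw [adj_mul hF, adj_Pr hF (hRU hcR) hc2, adj_Pr hF (hRU ha₂R) ha₂2, hcomm])
      (Pr_mul_Pr_ne_zero hC hcR (hca' ▸ ha1) ha₂R ha₂1 (hca' ▸ hne))
    refine ⟨v, ⟨Pr a₂ *ᵥ v, ?_⟩, ⟨Pr c *ᵥ v, ?_⟩, hvv⟩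
    · rw [Matrix.mulVecLin_apply, mulVec_mulVec, hv]
    · rw [Matrix.mulVecLin_apply, mulVec_mulVec, ← hcomm, hv]
  obtain ⟨e, heU, heU', hee⟩ := haniso a haR ha2 rfl hca
  obtain ⟨f, hfW, hfU', hff⟩ := haniso a' ha'R ha'2 ha'a (Units.ext (by
    simp only [Units.val_mul]
    change CfsgLib.CliffMax93.mt a' * CfsgLib.CliffMax93.mt a₂ = CfsgLib.CliffMax93.mt a₂ * CfsgLib.CliffMax93.mt a'
    rw [ha'v, neg_mul, mul_neg, comm_mt hca]))
  rw [hPr'] at hfW
  -- the swap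
  have hswap₁ : CfsgLib.CliffMax93.mt b * Pr a = Pm a * CfsgLib.CliffMax93.mt b := Pr_anti hab'
  have hswap₂ : CfsgLib.CliffMax93.mt b * Pm a = Pr a * CfsgLib.CliffMax93.mt b := by
    rw [show Pm a = 1 - Pr a from eq_sub_of_add_eq' (Pr_add_Pm hC a), mul_sub, hswap₁, mul_one,
      show Pr a = 1 - Pm a from eq_sub_of_add_eq (Pr_add_Pm hC a), sub_mul, one_mul]
  let D : Fin 2 → Submodule F (Fin 8 → F) := ![U, W]
  have hD0 : D 0 = U := rfl
  have hD1 : D 1 = W := rfl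
  have hstab : Cfsg.Geo.decompositionStabilizer D ⊓ K₈ ≤ X :=
    stabilizer_le hF (D := D) hcompl (hperp a haR ha2) (hperp a₂ ha₂R ha₂2) h0 h1 hP2 heU heU' hfW hfU' hee hff
      hbX hbK ⟨by
        rintro _ ⟨v, rfl⟩
        refine ⟨CfsgLib.CliffMax93.mt b *ᵥ v, ?_⟩
        show Pm a *ᵥ _ = CfsgLib.CliffMax93.mt b *ᵥ (Pr a *ᵥ v)
        rw [mulVec_mulVec, mulVec_mulVec, hswap₁], by
        rintro _ ⟨v, rfl⟩
        refine ⟨CfsgLib.CliffMax93.mt b *ᵥ v, ?_⟩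
        show Pr a *ᵥ _ = CfsgLib.CliffMax93.mt b *ᵥ (Pm a *ᵥ v)
        rw [mulVec_mulVec, mulVec_mulVec, hswap₂]⟩
  have hdimU : Module.finrank F U = 4 := by
    have := finrank_fix h2 ha2 hab'
    show Module.finrank F (LinearMap.range (Pr a).mulVecLin) = 4
    omega
  have hdimW : Module.finrank F W = 4 := by
    have := finrank_fix (b := b) h2 ha'2 (by
      change CfsgLib.CliffMax93.mt a' * CfsgLib.CliffMax93.mt b = -(CfsgLib.CliffMax93.mt b * CfsgLib.CliffMax93.mt a')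
      rw [ha'v, neg_mul, mul_neg, hab'])
    rw [hPr'] at this
    show Module.finrank F (LinearMap.range (Pm a).mulVecLin) = 4
    omega
  have hh := CfsgLib.GeomClasses.UnitPow.isUnitaryForm_hermForm hF 8
  have hnd : ∀ c : GL (Fin 8) F, c ∈ R → CfsgLib.CliffMax93.mt c * CfsgLib.CliffMax93.mt c = 1 →
      IsNondegenerateOn (Cfsg.hermForm 8 F q) (LinearMap.range (Pr c).mulVecLin) := by
    intro c hcR hc2 w hw hw0
    obtain ⟨v, hv, hwv⟩ := fix_nondeg hF h2 (hRU hcR) hc2 w hw hw0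
    exact ⟨⟨v, hv, fun e => hwv (CfsgLib.GeomClasses.Unit.eq_zero_comm hh e)⟩, v, hv, hwv⟩
  have hD : IsNondegenerateMDecomposition (Cfsg.hermForm 8 F q) 4 D := by
    refine ⟨⟨le_rfl, by norm_num, fun j => ?_, ?_, ?_⟩, fun j => ?_, fun j k hjk => ?_⟩
    · fin_cases j
      · exact hdimU
      · exact hdimW
    · rw [iSupIndep_pair (show (0 : Fin 2) ≠ 1 by decide) (fun j => by fin_cases j <;> simp)]
      exact hcompl.disjoint
    · exact eq_top_iff.2 (hcompl.sup_eq_top ▸ sup_le (le_iSup D 0) (le_iSup D 1))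
    · fin_cases j
      · exact hnd a haR ha2
      · have := hnd a' ha'R ha'2
        rwa [hPr'] at this
    · fin_cases j <;> fin_cases k <;> first | exact absurd rfl hjk | skip
      · exact hperp a haR ha2
      · exact fun v hv w hw => CfsgLib.GeomClasses.Unit.eq_zero_comm hh (hperp a haR ha2 w hw v hv)
  have hmax := CfsgLib.GeomClasses.UnitClauses.decomposition_maximal 8 q hF (by norm_num) 4 D hD (by simp) (by simp)
  rcases hmax.2 X hstab hXK with hX | hX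
  swap
  · exact hX
  exfalso
  obtain ⟨π, hπ⟩ := ((hX ▸ hmX : m ∈ Cfsg.Geo.decompositionStabilizer D ⊓ K₈)).1
  have hmem : ∀ j, ∀ v ∈ D j, CfsgLib.CliffMax93.mt m *ᵥ v ∈ D (π j) := by
    intro j v hv
    rw [← hπ j, ← Matrix.toLin'_apply]
    exact Submodule.mem_map_of_mem hv
  let sg : Fin 2 → F := ![1, -1]
  have hval : ∀ j, ∀ v ∈ D j, CfsgLib.CliffMax93.mt a *ᵥ v = sg j • v := by
    intro j v hv
    fin_cases j
    · exact ((hfixP a ha2 v hv).2).trans (one_smul F v).symm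
    · have hv' : v ∈ LinearMap.range (Pr a').mulVecLin := by rw [hPr']; exact hv
      have := (hfixP a' ha'2 v hv').2
      rw [ha'v, neg_mulVec] at this
      rw [eq_comm, ← neg_eq_iff_eq_neg.2 this.symm]
      exact neg_one_smul F v
  set c := sg (π 0) with hc0
  have hrel : CfsgLib.CliffMax93.mt m * CfsgLib.CliffMax93.mt a = c • (CfsgLib.CliffMax93.mt a * CfsgLib.CliffMax93.mt m) := by
    refine ext_sup (U := D 0) (W := D 1) hcompl.sup_eq_top (fun v hv => ?_) fun v hv => ?_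
    · rw [smul_mulVec, ← mulVec_mulVec, ← mulVec_mulVec, hval 0 v hv, hval _ _ (hmem 0 v hv), mulVec_smul, smul_smul,
        hc0]
      congr 1
      show (1 : F) = sg (π 0) * sg (π 0)
      rcases (show π 0 = 0 ∨ π 0 = 1 by omega) with e | e <;> simp [sg, e]
    · rw [smul_mulVec, ← mulVec_mulVec, ← mulVec_mulVec, hval 1 v hv, hval _ _ (hmem 1 v hv), mulVec_smul, smul_smul,
        hc0]
      congr 1
      show (-1 : F) = sg (π 0) * sg (π 1)
      have hne := π.injective.ne (show (0 : Fin 2) ≠ 1 by decide)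
      rcases (show π 0 = 0 ∧ π 1 = 1 ∨ π 0 = 1 ∧ π 1 = 0 by omega) with ⟨e, e'⟩ | ⟨e, e'⟩ <;> simp [sg, e, e']
  refine hne ((pg_eq_iff _ _).2 ⟨c, ?_⟩)
  rw [ha₂, mt_conj, hrel, smul_mul_assoc, mul_assoc, Units.mul_inv, mul_one]

end CfsgLib.CliffSU8
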