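import Cfsg.Agent.Lib.CliffSU8.Half
import Cfsg.Agent.Lib.CliffSU8.Group
import Cfsg.Agent.Lib.ClassicalGroups.UnitarySimple

/-!
The projection to the fixed space of an involution contains the special unitary group of that space.
-/

set_option autoImplicit false
set_option linter.unusedSectionVars false

namespace CfsgLib.CliffSU8

open Matrix Cfsg Cfsg.Geo
open CfsgLib.CliffMax93
open scoped MatrixGroups

variable {F : Type*} [Field F] [Fintype F] {q : ℕ}

/-- The maximality of the normalisers of symplectic-type groups of order 64 in `SU₄`. -/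
def SmallMax (F : Type*) [Field F] (q : ℕ) : Prop :=
  ∀ R : Subgroup (GL (Fin 4) F), Cfsg.Geo.IsSymplecticTypeGroup 2 R →
    Cfsg.Geo.ActsAbsolutelyIrreducibly (Cfsg.Geo.matrixSet R) → R ≤ Cfsg.GU 4 F q → Nat.card R = 64 →
    Nat.card (Subgroup.center R) = 4 →
    Cfsg.Geo.IsMaximalIn (Cfsg.GU 4 F q ⊓ Cfsg.Geo.specialLinear (Fin 4) F)
      (Cfsg.Geo.subgroupNormalizer R ⊓ (Cfsg.GU 4 F q ⊓ Cfsg.Geo.specialLinear (Fin 4) F))

variable {m : ℕ}

theorem adj_fromBlocks (A B C D : Matrix (Fin m) (Fin m) F) :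
    adj q (fromBlocks A B C D) = fromBlocks (adj q A) (adj q C) (adj q B) (adj q D) := by
  ext (x | x) (y | y) <;> rfl

theorem isUni_dd (hF : Fintype.card F = q ^ 2) (p : GL (Fin m) F × GL (Fin m) F) :
    IsUni q (CfsgLib.CliffMax93.mt (dd p)) ↔ p.1 ∈ Cfsg.GU m F q ∧ p.2 ∈ Cfsg.GU m F q := by
  have hq : q ≠ 0 := by have := CfsgLib.GeomClasses.UnitPow.two_le hF; omega
  have h0 : adj q (0 : Matrix (Fin m) (Fin m) F) = 0 := by ext x y; simp [adj, zero_pow hq]
  rw [IsUni, mt_dd, adj_fromBlocks, h0, fromBlocks_multiply]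
  simp only [Matrix.mul_zero, Matrix.zero_mul, add_zero, zero_add]
  rw [← fromBlocks_one, fromBlocks_inj, mem_GU_iff_adj hF, mem_GU_iff_adj hF]
  exact ⟨fun h => ⟨h.1, h.2.2.2⟩, fun h => ⟨h.1, rfl, rfl, h.2⟩⟩

theorem det_dd (p : GL (Fin m) F × GL (Fin m) F) :
    (CfsgLib.CliffMax93.mt (dd p)).det = (CfsgLib.CliffMax93.mt p.1).det * (CfsgLib.CliffMax93.mt p.2).det := by
  rw [mt_dd, det_fromBlocks_zero₂₁]

theorem i_conj (hF : Fintype.card F = q ^ 2) {R : Subgroup (GL (Fin m) F)} {i : F} (hC : Cliff R i)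
    (hRU : R ≤ Cfsg.GU m F q) : i ^ q = -i := by
  obtain ⟨g, hg, hgi⟩ := hC.scal
  have := hC.nonempty
  have j := Classical.arbitrary (Fin m)
  have h := congrFun (congrFun ((mem_GU_iff_adj hF g).1 (hRU hg)) j) j
  have hq : q ≠ 0 := by have := CfsgLib.GeomClasses.UnitPow.two_le hF; omega
  rw [show (g : Matrix (Fin m) (Fin m) F) = i • 1 from hgi] at h
  have h' : i ^ q * i = 1 := by
    simpa [adj, Matrix.mul_apply, Matrix.one_apply, Finset.sum_ite_eq', zero_pow hq, ite_pow] using h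
  linear_combination (-i) * h' + i ^ q * hC.hi

/-- Transvection lifts of unitary involutions are unitary. -/
theorem isT_mem_GU (hF : Fintype.card F = q ^ 2) {R : Subgroup (GL (Fin m) F)} {i : F} (hC : Cliff R i)
    (hRU : R ≤ Cfsg.GU m F q) {t s : GL (Fin m) F} (ht : IsT i t s) (hs : s ∈ R)
    (hs2 : CfsgLib.CliffMax93.mt s * CfsgLib.CliffMax93.mt s = 1) : t ∈ Cfsg.GU m F q := by
  have e := adj_involution hF (hRU hs) hs2
  have hi := i_conj hF hC hRU
  have hadj : adj q (Tm i (CfsgLib.CliffMax93.mt s)) = (-i) • Tm i (-CfsgLib.CliffMax93.mt s) := by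
    unfold adj Tm at *
    have h1 : (((1 + i) / 2) • (1 : Matrix (Fin m) (Fin m) F) + ((1 - i) / 2) • CfsgLib.CliffMax93.mt s).map
        (CfsgLib.GeomClasses.UnitPow.conj hF) = ((1 - i) / 2) • (1 : Matrix (Fin m) (Fin m) F) +
          ((1 + i) / 2) • (CfsgLib.CliffMax93.mt s).map (CfsgLib.GeomClasses.UnitPow.conj hF) := by
      ext x y
      simp only [Matrix.map_apply, Matrix.smul_apply, Matrix.add_apply, smul_eq_mul, map_add, map_mul, map_div₀,
        map_sub, map_one, map_ofNat]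
      rw [show (CfsgLib.GeomClasses.UnitPow.conj hF) i = -i from hi]
      by_cases hxy : x = y
      · subst hxy; simp [sub_eq_add_neg]
      · have : q ≠ 0 := by have := CfsgLib.GeomClasses.UnitPow.two_le hF; omega
        simp [Matrix.one_apply_ne hxy, sub_eq_add_neg, zero_pow this]
    show ((((1 + i) / 2) • (1 : Matrix (Fin m) (Fin m) F) + ((1 - i) / 2) • CfsgLib.CliffMax93.mt s).map
        (CfsgLib.GeomClasses.UnitPow.conj hF))ᵀ = _
    rw [h1, transpose_add, transpose_smul, transpose_smul, transpose_one,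
      show ((CfsgLib.CliffMax93.mt s).map (CfsgLib.GeomClasses.UnitPow.conj hF))ᵀ = CfsgLib.CliffMax93.mt s from e,
      smul_add, smul_smul, smul_smul, smul_neg, ← neg_smul]
    congr 1
    · congr 1; field_simp; linear_combination (1 / 2 : F) * hC.hi
    · congr 1; field_simp; linear_combination (1 / 2 : F) * hC.hi
  rw [mem_GU_iff_adj hF, show (t : Matrix (Fin m) (Fin m) F) = _ from ht, hadj, smul_mul_assoc]
  have h := (Tm_mul hC.hi hC.two (s := -CfsgLib.CliffMax93.mt s) (by rw [neg_mul_neg, hs2])).1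
  rw [neg_neg] at h
  rw [h, smul_smul, neg_mul, hC.hi, neg_neg, one_smul]

/-- If the projection of some element fails to normalise, the unitary group of one half lies in `X`. -/
theorem dd_SU_mem (hF : Fintype.card F = q ^ 2) (hsmall : SmallMax F q)
    {R X : Subgroup (GL (Fin 4 ⊕ Fin 4) F)} {i : F} {a b : GL (Fin 4 ⊕ Fin 4) F} (S : Std R i a b)
    (hirr : ActsIrreducibly (matrixSet R))
    (hRU : ∀ g ∈ R, IsUni q (CfsgLib.CliffMax93.mt g))
    (hN : ∀ g ∈ Subgroup.normalizer (R : Set (GL (Fin 4 ⊕ Fin 4) F)), IsUni q (CfsgLib.CliffMax93.mt g) →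
      (CfsgLib.CliffMax93.mt g).det = 1 → g ∈ X)
    (hXU : ∀ g ∈ X, IsUni q (CfsgLib.CliffMax93.mt g)) {x : GL (Fin 4 ⊕ Fin 4) F} (hg : Good R X a x) :
    ∀ h ∈ Cfsg.GU 4 F q ⊓ Cfsg.Geo.specialLinear (Fin 4) F, dd (h, (1 : GL (Fin 4) F)) ∈ X := by
  classical
  have hRX : R ≤ X := fun g hg => hN g (Subgroup.le_normalizer hg) (hRU g hg)
    (det_eq_one S.cliff (by simp) hg)
  set R₀ := half R with hR₀
  set K₄ := Cfsg.GU 4 F q ⊓ Cfsg.Geo.specialLinear (Fin 4) F with hK₄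
  have hC : Cliff R₀ i := S.cliff_half
  have h4 : 4 ∣ Fintype.card (Fin 4) := by simp
  have hR₀U : R₀ ≤ Cfsg.GU 4 F q := fun r hr => ((isUni_dd hF (r, r)).1 (hRU _ hr)).1
  have hdet : ∀ {r : GL (Fin 4) F}, r ∈ R₀ → (CfsgLib.CliffMax93.mt r).det = 1 := fun hr => det_eq_one hC h4 hr
  have hR₀K : ∀ {r : GL (Fin 4) F}, r ∈ R₀ → r ∈ K₄ := fun hr =>
    ⟨hR₀U hr, CfsgLib.GeomClasses.mem_specialLinear.2 (hdet hr)⟩
  obtain ⟨hcard, hZ, hst⟩ := symplecticType hC (by simp) ⟨2, by simp⟩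
  have hmax := hsmall R₀ hst ⟨S.half_irreducible hirr, fun M hM => hC.irr M fun r hr => hM _ ⟨r, hr, rfl⟩⟩ hR₀U
    (by rw [hcard]; simp) hZ
  have hq0 := S.cliff.scal
  -- the signs of `dd (r, r)` under conjugation
  have hneg : ∃ e ∈ R₀, CfsgLib.CliffMax93.mt e = (-1 : F) • (1 : Matrix (Fin 4) (Fin 4) F) := by
    obtain ⟨g, hg, hgi⟩ := hC.scal
    exact ⟨g * g, R₀.mul_mem hg hg, by
      rw [show CfsgLib.CliffMax93.mt (g * g) = CfsgLib.CliffMax93.mt g * CfsgLib.CliffMax93.mt g from Units.val_mul _ _,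
        hgi, smul_mul_smul_comm, one_mul, hC.hi]⟩
  -- lifts of elements of the small normaliser
  have hlift : ∀ h ∈ Subgroup.normalizer (R₀ : Set (GL (Fin 4) F)), h ∈ K₄ → dd (h, h) ∈ X := by
    intro h hh hK
    refine hN _ (mem_normalizer_of_conj fun g hg => ?_) ((isUni_dd hF _).2 ⟨hK.1, hK.1⟩) ?_
    · obtain ⟨r, hr, d, e, rfl⟩ := S.decompose hg
      have ca : dd (h, h) * a * (dd (h, h))⁻¹ = a := by
        rw [(S.comm_iff (dd (h, h))).2 ⟨_, rfl⟩, mul_inv_cancel_right]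
      have cb : dd (h, h) * b * (dd (h, h))⁻¹ = b := by
        rw [(S.comm_b_iff (h, h)).2 rfl, mul_inv_cancel_right]
      have cr : dd (h, h) * dd (r, r) * (dd (h, h))⁻¹ = dd (h * r * h⁻¹, h * r * h⁻¹) := by
        rw [← map_inv, ← map_mul, ← map_mul]; rfl
      rw [show dd (h, h) * (dd (r, r) * (if d then a else 1) * (if e then b else 1)) * (dd (h, h))⁻¹ =
        dd (h, h) * dd (r, r) * (dd (h, h))⁻¹ * (dd (h, h) * (if d then a else 1) * (dd (h, h))⁻¹) *
          (dd (h, h) * (if e then b else 1) * (dd (h, h))⁻¹) by group, cr]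
      refine R.mul_mem (R.mul_mem ((Subgroup.mem_normalizer_iff.1 hh r).1 hr) ?_) ?_
      · cases d <;> simp [ca, S.aR]
      · cases e <;> simp [cb, S.bR]
    · rw [det_dd, CfsgLib.GeomClasses.mem_specialLinear.1 hK.2, one_mul]
  -- the projection
  set P : Subgroup (GL (Fin 4) F) := proj X ⊓ K₄ with hP
  have hNP : Cfsg.Geo.subgroupNormalizer R₀ ⊓ K₄ ≤ P := fun h hh =>
    ⟨mem_proj.2 ⟨h, hlift h hh.1 hh.2⟩, hh.2⟩
  obtain ⟨A, hA, hAN⟩ := S.good_not_normalizer hg
  have hprojU : ∀ B ∈ proj X, B ∈ Cfsg.GU 4 F q := fun B hB => by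
    obtain ⟨D, hD⟩ := mem_proj.1 hB
    exact ((isUni_dd hF _).1 (hXU _ hD)).1
  have hKnorm : ∀ B ∈ proj X, ∀ h ∈ K₄, B * h * B⁻¹ ∈ K₄ := fun B hB h hh =>
    ⟨mul_mem (mul_mem (hprojU B hB) hh.1) (Subgroup.inv_mem _ (hprojU B hB)),
      (MonoidHom.normal_ker (Matrix.GeneralLinearGroup.det : GL (Fin 4) F →* Fˣ)).conj_mem h hh.2 B⟩
  have hPnorm : ∀ B ∈ proj X, ∀ h ∈ P, B * h * B⁻¹ ∈ P := fun B hB h hh =>
    ⟨mul_mem (mul_mem hB hh.1) ((proj X).inv_mem hB), hKnorm B hB h hh.2⟩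
  have hSU : K₄ ≤ proj X := by
    rcases hmax.2 P hNP inf_le_right with hPe | hPe
    swap
    · exact fun h hh => (hPe.symm ▸ hh : h ∈ P).1
    exfalso
    refine hAN (mem_normalizer_of_conj fun r hr => ?_)
    -- the conjugate group
    have hconjN : ∀ r ∈ R₀, A * r * A⁻¹ ∈ Subgroup.normalizer (R₀ : Set (GL (Fin 4) F)) := fun r hr => by
      have h1 : A * r * A⁻¹ ∈ P := hPnorm A hA r ⟨half_le_proj hRX hr, hR₀K hr⟩
      rw [hPe] at h1
      exact h1.1
    have hinv : ∀ w ∈ P, ∀ r ∈ R₀, A⁻¹ * (w * (A * r * A⁻¹) * w⁻¹) * A ∈ R₀ := by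
      intro w hw r hr
      have h1 := hPnorm A⁻¹ (inv_mem hA) w hw
      rw [hPe, inv_inv] at h1
      have h2 := (Subgroup.mem_normalizer_iff.1 h1.1 r).1 hr
      have e : A⁻¹ * (w * (A * r * A⁻¹) * w⁻¹) * A = A⁻¹ * w * A * r * (A⁻¹ * w * A)⁻¹ := by group
      rw [e]; exact h2
    let R₁ : Subgroup (GL (Fin 4) F) := R₀.map (MulAut.conj A).toMonoidHom
    have hR₁ : ∀ g, g ∈ R₁ ↔ A⁻¹ * g * A ∈ R₀ := by
      intro g
      constructor
      · rintro ⟨r, hr, rfl⟩; simpa [mul_assoc] using hr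
      · intro h; exact ⟨_, h, by simp [mul_assoc]⟩
    have hR₁P : ∀ g ∈ R₁, g ∈ P := by
      rintro g ⟨r, hr, rfl⟩
      exact hPnorm A hA r ⟨half_le_proj hRX hr, hR₀K hr⟩
    have hWP : ∀ w ∈ P, ∀ g ∈ R₁, w * g * w⁻¹ ∈ R₁ := by
      intro w hw g hg
      rw [hR₁]
      have := hinv w hw _ ((hR₁ g).1 hg)
      rwa [show A * (A⁻¹ * g * A) * A⁻¹ = g by group] at this
    -- a non-central common element
    obtain ⟨c, hc0, hc1, hc1'⟩ : ∃ c ∈ R₀, c ∈ R₁ ∧ pg c ≠ 1 := by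
      by_contra hcon
      push Not at hcon
      -- then the conjugate group centralises modulo scalars
      have hmem : ∀ g ∈ R₁, pg g ∈ Wbar R₀ := by
        intro g hg
        refine hC.pg_mem_of_centralizes ?_
        rintro _ ⟨r, hr, rfl⟩
        have hrP : r ∈ P := ⟨half_le_proj hRX hr, hR₀K hr⟩
        have hgN : g ∈ Subgroup.normalizer (R₀ : Set (GL (Fin 4) F)) := (hPe ▸ hR₁P g hg : g ∈ _ ⊓ K₄).1
        have k0 : g * r * g⁻¹ * r⁻¹ ∈ R₀ := R₀.mul_mem ((Subgroup.mem_normalizer_iff.1 hgN r).1 hr) (R₀.inv_mem hr)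
        have k1 : g * r * g⁻¹ * r⁻¹ ∈ R₁ := by
          have := R₁.mul_mem hg (hWP r hrP _ (R₁.inv_mem hg))
          have e : g * r * g⁻¹ * r⁻¹ = g * (r * g⁻¹ * r⁻¹) := by group
          rw [e]; exact this
        have := hcon _ k0 k1
        rw [map_mul, map_mul, map_mul, map_inv, map_inv, mul_inv_eq_one, mul_inv_eq_iff_eq_mul] at this
        exact this
      obtain ⟨g, hg0, hgA⟩ : ∃ g ∈ R₀, pg g ≠ 1 := by
        by_contra hall
        push Not at hall
        have : Nat.card (R₀.map (pg (ι := Fin 4) (F := F))) = 1 := by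
          rw [Subgroup.card_eq_one]
          exact (Subgroup.map_eq_bot_iff R₀).2 fun r hr => (MonoidHom.mem_ker).2 (hall r hr)
        rw [hC.card] at this
        simp at this
      have hg1 : A * g * A⁻¹ ∈ R₁ := ⟨g, hg0, rfl⟩
      obtain ⟨r, hr, hrw⟩ := hmem _ hg1
      have hr' := hC.mem_of_pg_eq hr hrw.symm (g := A * g * A⁻¹) (hC.lift_mem_sq hg0)
      refine hgA (conj_eq_one_iff.1 (?_ : pg A * pg g * (pg A)⁻¹ = 1))
      rw [← map_inv, ← map_mul, ← map_mul]
      exact hcon _ hr' hg1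
    -- everything is common
    have hsub : ∀ v ∈ R₀, v ∈ R₁ := by
      intro v hv
      by_cases hv1 : pg v = 1
      · rw [hR₁]
        obtain ⟨d, hd⟩ := (pg_eq_one_iff v).1 hv1
        have hcm : v * A = A * v := Units.ext (by
          simp only [Units.val_mul]
          rw [show (v : Matrix (Fin 4) (Fin 4) F) = d • 1 from hd]; simp)
        rw [mul_assoc, hcm, inv_mul_cancel_left]; exact hv
      · obtain ⟨s, s', t, t', hs, hs', hs2, hs2', ht, ht', hd, hmN, hm⟩ := exists_move_two hC h4 hc0 hv hc1' hv1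
        have hwP : t' * t ∈ P := hNP ⟨hmN, mul_mem (isT_mem_GU hF hC hR₀U ht' hs' hs2')
          (isT_mem_GU hF hC hR₀U ht hs hs2), CfsgLib.GeomClasses.mem_specialLinear.2 hd⟩
        have hcv := hWP _ hwP c hc1
        obtain ⟨d, hd'⟩ := (pg_eq_iff v _).1 hm.symm
        rw [hR₁] at hcv ⊢
        refine hC.mem_of_pg_eq hcv ?_ (g := A⁻¹ * v * A) ?_
        · rw [map_mul, map_mul, ← hm, ← map_mul, ← map_mul]
        · have h := hC.lift_mem_sq (g := A⁻¹) hv
          rwa [inv_inv] at h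
    have heq : R₁ = R₀ := by
      have : Finite R₁ := Subtype.finite
      refine (Subgroup.eq_of_le_of_card_ge hsub ?_).symm
      exact le_of_eq (Nat.card_congr (R₀.equivMapOfInjective _ (MulAut.conj A).injective).toEquiv.symm)
    show A * r * A⁻¹ ∈ R₀
    rw [← heq]
    exact ⟨r, hr, rfl⟩
  -- the kernel
  set L : Subgroup (GL (Fin 4) F) :=
    (X.comap (dd.comp ((MonoidHom.id (GL (Fin 4) F)).prod 1))) ⊓ K₄ with hL
  have hLmem : ∀ h, h ∈ L ↔ dd (h, 1) ∈ X ∧ h ∈ K₄ := fun h => Iff.rfl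
  have hLnorm : ∀ B ∈ K₄, ∀ h ∈ L, B * h * B⁻¹ ∈ L := by
    intro B hB h hh
    obtain ⟨D, hD⟩ := mem_proj.1 (hSU hB)
    refine ⟨?_, hKnorm B (hSU hB) h hh.2⟩
    have := X.mul_mem (X.mul_mem hD ((hLmem h).1 hh).1) (X.inv_mem hD)
    show dd (B * h * B⁻¹, 1) ∈ X
    rw [← map_inv, ← map_mul, ← map_mul] at this
    convert this using 2
    simp
  obtain ⟨r₀, hr₀, hr₀'⟩ : ∃ r ∈ R₀, ∃ v ∈ R₀, bt r v = -1 := by
    by_contra hall
    push Not at hall
    have : Nat.card (R₀.map (pg (ι := Fin 4) (F := F))) = 1 := by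
      rw [Subgroup.card_eq_one]
      refine (Subgroup.map_eq_bot_iff R₀).2 fun r hr => MonoidHom.mem_ker.2 ?_
      exact hC.pg_eq_one_of_comm fun v hv => (bt_comm_iff hC r v).1 ((bt_pm r v).resolve_right (hall r hr v hv))
    rw [hC.card] at this
    simp at this
  have hrL : r₀ ∈ L := by
    refine ⟨?_, hR₀K hr₀⟩
    show dd (r₀, 1) ∈ X
    refine hN _ (mem_normalizer_of_conj fun g hg => ?_) ((isUni_dd hF _).2 ⟨hR₀U hr₀, one_mem _⟩) ?_
    · obtain ⟨p, hp, d, e, rfl⟩ := S.decompose hg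
      have ca : dd (r₀, 1) * a * (dd (r₀, 1))⁻¹ = a := by
        rw [(S.comm_iff (dd (r₀, 1))).2 ⟨_, rfl⟩, mul_inv_cancel_right]
      have cb : dd (r₀, 1) * b * (dd (r₀, 1))⁻¹ ∈ R := by
        have e1 : dd (r₀, 1) * b * (dd (r₀, 1))⁻¹ = dd (r₀, r₀⁻¹) * b := by
          have e2 : b * (dd (r₀, 1))⁻¹ = dd ((r₀, (1 : GL (Fin 4) F))⁻¹.2, (r₀, (1 : GL (Fin 4) F))⁻¹.1) * b := by
            rw [← map_inv, ← S.conj_b, inv_mul_cancel_right]
          rw [mul_assoc, e2, ← mul_assoc, ← map_mul]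
          congr 2
          simp
        rw [e1]
        refine R.mul_mem ?_ S.bR
        rcases hC.sq r₀ hr₀ with h | h
        · rw [show r₀⁻¹ = r₀ from inv_eq_of_mul_eq_one_right (Units.ext (by rw [Units.val_mul]; exact h))]
          exact hr₀
        · have e3 : dd (r₀, r₀⁻¹) = dd (r₀, r₀) * a := Units.ext (by
            rw [Units.val_mul]
            change CfsgLib.CliffMax93.mt (dd (r₀, r₀⁻¹)) = CfsgLib.CliffMax93.mt (dd (r₀, r₀)) * CfsgLib.CliffMax93.mt a
            rw [mt_dd, mt_dd, S.aval, fromBlocks_multiply]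
            simp only [Matrix.mul_one, Matrix.mul_zero, add_zero, zero_add, Matrix.mul_neg, neg_zero]
            congr 1
            have : ((r₀⁻¹ : GL (Fin 4) F) : Matrix (Fin 4) (Fin 4) F) * (CfsgLib.CliffMax93.mt r₀ * CfsgLib.CliffMax93.mt r₀) =
                CfsgLib.CliffMax93.mt r₀ := by rw [← mul_assoc, Units.inv_mul, one_mul]
            rw [h, mul_neg, mul_one] at this
            rw [← this, neg_neg])
          rw [e3]; exact R.mul_mem hr₀ S.aR
      have cr : dd (r₀, 1) * dd (p, p) * (dd (r₀, 1))⁻¹ ∈ R := by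
        rcases hC.comm r₀ hr₀ p hp with h | h
        · rw [← map_inv, ← map_mul, ← map_mul]
          have e4 : (r₀, (1 : GL (Fin 4) F)) * (p, p) * (r₀, (1 : GL (Fin 4) F))⁻¹ = (p, p) := by simp [h]
          rw [e4]; exact hp
        · have e3 : dd (r₀, 1) * dd (p, p) * (dd (r₀, 1))⁻¹ = dd (p, p) * a * (if true then
              (dd (Classical.choose hneg, Classical.choose hneg)) else 1) := by
            obtain ⟨-, hev⟩ := Classical.choose_spec hneg
            rw [← map_inv, ← map_mul, ← map_mul]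
            refine Units.ext ?_
            simp only [↓reduceIte, Units.val_mul]
            change CfsgLib.CliffMax93.mt (dd _) = CfsgLib.CliffMax93.mt (dd (p, p)) * CfsgLib.CliffMax93.mt a *
              CfsgLib.CliffMax93.mt (dd _)
            rw [mt_dd, mt_dd, mt_dd, S.aval, hev, fromBlocks_multiply, fromBlocks_multiply]
            have : CfsgLib.CliffMax93.mt r₀ * CfsgLib.CliffMax93.mt p * ((r₀⁻¹ : GL (Fin 4) F) : Matrix (Fin 4) (Fin 4) F) =
                -CfsgLib.CliffMax93.mt p := by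
              rw [h, Matrix.neg_mul, Matrix.mul_assoc, Units.mul_inv, Matrix.mul_one]
            simp
            rw [← Matrix.coe_units_inv]; exact this
          rw [e3]
          exact R.mul_mem (R.mul_mem hp S.aR) (Classical.choose_spec hneg).1
      rw [show dd (r₀, 1) * (dd (p, p) * (if d then a else 1) * (if e then b else 1)) * (dd (r₀, 1))⁻¹ =
        dd (r₀, 1) * dd (p, p) * (dd (r₀, 1))⁻¹ * (dd (r₀, 1) * (if d then a else 1) * (dd (r₀, 1))⁻¹) *
          (dd (r₀, 1) * (if e then b else 1) * (dd (r₀, 1))⁻¹) by group]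
      refine R.mul_mem (R.mul_mem cr ?_) ?_
      · cases d <;> simp [ca, S.aR]
      · cases e <;> simp [cb]
    · rw [det_dd, hdet hr₀]; simp
  -- transfer to the group of unitary matrices
  intro h hh
  let φ : Cfsg.SU 4 F q →* GL (Fin 4) F := Matrix.SpecialLinearGroup.toGL.comp (Cfsg.SU 4 F q).subtype
  have hφK : ∀ g : Cfsg.SU 4 F q, φ g ∈ K₄ := fun g =>
    ⟨g.2, CfsgLib.GeomClasses.mem_specialLinear.2 g.1.2⟩
  have hφsurj : ∀ g ∈ K₄, ∃ g' : Cfsg.SU 4 F q, φ g' = g := fun g hg =>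
    ⟨⟨⟨_, CfsgLib.GeomClasses.mem_specialLinear.1 hg.2⟩, hg.1⟩, Units.ext rfl⟩
  have hnormal : (L.comap φ).Normal := ⟨fun g hg k => by
    rw [Subgroup.mem_comap, map_mul, map_mul, map_inv]
    exact hLnorm _ (hφK k) _ hg⟩
  rcases CfsgLib.ClassicalGroups.normal_le_center_or_top hF (by norm_num) (by simp) (L.comap φ) hnormal with hc | hc
  · exfalso
    obtain ⟨r', hr'⟩ := hφsurj r₀ hrL.2
    obtain ⟨v, hv, hbv⟩ := hr₀'
    obtain ⟨v', hv'⟩ := hφsurj v (hR₀K hv)
    have := congrArg φ (Subgroup.mem_center_iff.1 (hc (show r' ∈ L.comap φ by rw [Subgroup.mem_comap, hr']; exact hrL)) v')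
    rw [map_mul, map_mul, hr', hv'] at this
    exact hC.neg_one_ne_one (hbv.symm.trans ((bt_comm_iff hC _ _).2 this.symm))
  · obtain ⟨h', hh'⟩ := hφsurj h hh
    have : h' ∈ L.comap φ := by rw [hc]; trivial
    rw [Subgroup.mem_comap, hh'] at this
    exact this.1

end CfsgLib.CliffSU8
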