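import Cfsg.Agent.Lib.CliffSU8.SmallReal
import Cfsg.Agent.Lib.CliffSU8.Small
import Cfsg.Agent.Lib.ClassicalGroups.UnitarySimple

/-!
The normaliser of a symplectic-type group of order 64 with centre of order 4 is maximal in `SU₄` over the field
with `p²` elements, `p ≡ 3 (mod 4)`.
-/

set_option autoImplicit false
set_option linter.unusedSectionVars false

namespace CfsgLib.CliffSU8

open Matrix CfsgLib.Orth CfsgLib.GeomClasses.Frame
open CfsgLib.FrameSix (q6 q6_apply polar_q6 Coords)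
open scoped MatrixGroups

variable {F : Type*} [Field F] [Fintype F] {p : ℕ} [Fact p.Prime] [CharP F p]

/-- The embedding of the prime field. -/
noncomputable def emb : ZMod p →+* F := ZMod.castHom (dvd_refl p) F

theorem mem_range_emb {x : F} (hx : x ^ p = x) : ∃ y : ZMod p, emb (F := F) y = x := by
  have h := (Subfield.mem_bot_iff_pow_eq_self (F := F) (p := p)).2 hx
  rw [← ZMod.fieldRange_castHom_eq_bot p] at h
  exact h

theorem emb_pow (y : ZMod p) : (emb y : F) ^ p = emb y := by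
  rw [← map_pow, ZMod.pow_card]

theorem comp_single (k : Fin 6) :
    ⇑(emb (F := F) (p := p)) ∘ (Pi.single k 1 : Fin 6 → ZMod p) = (Pi.single k 1 : Fin 6 → F) := by
  funext l
  by_cases h : l = k
  · subst h; simp
  · simp [h]

theorem q6_comp (x : Fin 6 → ZMod p) : q6 (⇑(emb (F := F)) ∘ x) = emb (q6 x) := by
  simp [q6_apply, map_sum]

theorem refl_comp (v x : Fin 6 → ZMod p) :
    app (refl q6 (⇑(emb (F := F)) ∘ v)) (⇑(emb (F := F)) ∘ x) =
      ⇑(emb (F := F)) ∘ app (refl q6 v) x := by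
  funext l
  simp only [app_refl, polar_q6, q6_comp, dotProduct, Function.comp_apply, Pi.sub_apply, Pi.smul_apply, smul_eq_mul,
    map_sub, map_mul, map_inv₀, map_sum, map_ofNat]

variable {R : Subgroup (GL (Fin 4) F)} {c : F}

/-- The inclusion of the special unitary group in the special linear group. -/
def toSL : Cfsg.SU 4 F p →* Cfsg.Geo.specialLinear (Fin 4) F :=
  MonoidHom.codRestrict (Matrix.SpecialLinearGroup.toGL.comp (Cfsg.SU 4 F p).subtype) _ fun g =>
    CfsgLib.GeomClasses.mem_specialLinear.2 g.1.2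

theorem toSL_mem_GU (g : Cfsg.SU 4 F p) : ((toSL g : GL (Fin 4) F)) ∈ Cfsg.GU 4 F p := g.2

theorem exists_toSL {g : GL (Fin 4) F} (hg : g ∈ Cfsg.GU 4 F p ⊓ Cfsg.Geo.specialLinear (Fin 4) F) :
    ∃ y : Cfsg.SU 4 F p, (toSL y : GL (Fin 4) F) = g :=
  ⟨⟨⟨_, CfsgLib.GeomClasses.mem_specialLinear.1 hg.2⟩, hg.1⟩, Units.ext rfl⟩

variable (K : Coords R c)

/-- The matrix of an element on the six coordinates. -/
noncomputable def sixMat (g : Cfsg.SU 4 F p) : Matrix (Fin 6) (Fin 6) F :=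
  ((K.psi (toSL g) : GL (Fin 6) F) : Matrix (Fin 6) (Fin 6) F)

theorem sixMat_real (hF : Fintype.card F = p ^ 2) (hp4 : p % 4 = 3) (hRU : R ≤ Cfsg.GU 4 F p)
    (g : Cfsg.SU 4 F p) : (sixMat K g).map (· ^ p) = sixMat K g := by
  have e : sixMat K g = FrameSix.act c ((K.conj (toSL g) : GL (Fin 4) F) : Matrix (Fin 4) (Fin 4) F) :=
    Matrix.ext_of_mulVec_single fun j => by
      rw [← FrameSix.app_phi K.sq K.two]
      rfl
  rw [e]
  refine act_real hF hp4 K.sq K.two (FrameSix.det_sl _) ?_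
  exact (mem_GU_iff_coords K hF hp4 hRU _).1 (toSL_mem_GU g)

theorem exists_res (hF : Fintype.card F = p ^ 2) (hp4 : p % 4 = 3) (hRU : R ≤ Cfsg.GU 4 F p)
    (g : Cfsg.SU 4 F p) : ∃ M : Matrix (Fin 6) (Fin 6) (ZMod p), M.map (emb (F := F)) = sixMat K g := by
  choose f hf using fun i j => mem_range_emb (congrFun (congrFun (sixMat_real K hF hp4 hRU g) i) j)
  exact ⟨Matrix.of f, Matrix.ext hf⟩

theorem map_emb_injective : Function.Injective fun M : Matrix (Fin 6) (Fin 6) (ZMod p) => M.map (emb (F := F)) :=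
  Matrix.map_injective (emb (F := F) (p := p)).injective

/-- The restriction to the six coordinates over the prime field. -/
noncomputable def resMat (hF : Fintype.card F = p ^ 2) (hp4 : p % 4 = 3) (hRU : R ≤ Cfsg.GU 4 F p) :
    Cfsg.SU 4 F p →* Matrix (Fin 6) (Fin 6) (ZMod p) where
  toFun g := (exists_res K hF hp4 hRU g).choose
  map_one' := map_emb_injective (F := F) (by
    show ((exists_res K hF hp4 hRU 1).choose).map (emb (F := F)) = ((1 : Matrix (Fin 6) (Fin 6) (ZMod p)).map (emb (F := F)))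
    rw [(exists_res K hF hp4 hRU 1).choose_spec, Matrix.map_one _ (map_zero _) (map_one _), sixMat, map_one, map_one]
    rfl)
  map_mul' g h := map_emb_injective (F := F) (by
    show ((exists_res K hF hp4 hRU (g * h)).choose).map (emb (F := F)) = ((exists_res K hF hp4 hRU g).choose * (exists_res K hF hp4 hRU h).choose).map (emb (F := F))
    rw [(exists_res K hF hp4 hRU (g * h)).choose_spec, Matrix.map_mul, (exists_res K hF hp4 hRU g).choose_spec,
      (exists_res K hF hp4 hRU h).choose_spec, sixMat, map_mul, map_mul]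
    rfl)

theorem map_resMat (hF : Fintype.card F = p ^ 2) (hp4 : p % 4 = 3) (hRU : R ≤ Cfsg.GU 4 F p)
    (g : Cfsg.SU 4 F p) : (resMat K hF hp4 hRU g).map (emb (F := F)) = sixMat K g :=
  (exists_res K hF hp4 hRU g).choose_spec

/-- The action on six coordinates over the prime field. -/
noncomputable def psi₀ (hF : Fintype.card F = p ^ 2) (hp4 : p % 4 = 3) (hRU : R ≤ Cfsg.GU 4 F p) :
    Cfsg.SU 4 F p →* O (q6 (F := ZMod p)) :=
  MonoidHom.codRestrict (resMat K hF hp4 hRU).toHomUnits _ fun g u _ => by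
    apply (emb (F := F) (p := p)).injective
    show emb (q6 (resMat K hF hp4 hRU g *ᵥ u)) = emb (q6 u)
    rw [← q6_comp (F := F), ← q6_comp (F := F)]
    conv_rhs => rw [← Q_app (K.psi (toSL g)) (⇑(emb (F := F) (p := p)) ∘ u)]
    congr 1
    funext i
    rw [Function.comp_apply, RingHom.map_mulVec, map_resMat]
    rfl

variable (hF : Fintype.card F = p ^ 2) (hp4 : p % 4 = 3) (hRU : R ≤ Cfsg.GU 4 F p)

theorem app_psi₀ (g : Cfsg.SU 4 F p) (x : Fin 6 → ZMod p) :
    app (K.psi (toSL g)) (⇑(emb (F := F)) ∘ x) = ⇑(emb (F := F)) ∘ app (psi₀ K hF hp4 hRU g) x := by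
  funext i
  rw [Function.comp_apply]
  show _ = emb ((resMat K hF hp4 hRU g *ᵥ x) i)
  rw [RingHom.map_mulVec, map_resMat]
  rfl

theorem psi_eq_one {g : Cfsg.SU 4 F p} (h : psi₀ K hF hp4 hRU g = 1) : K.psi (toSL g) = 1 := by
  refine Subtype.ext (Units.ext ?_)
  show sixMat K g = 1
  rw [← map_resMat K hF hp4 hRU g, show resMat K hF hp4 hRU g = 1 from congrArg (fun t : O (q6 (F := ZMod p)) =>
    ((t : GL (Fin 6) (ZMod p)) : Matrix (Fin 6) (Fin 6) (ZMod p))) h, Matrix.map_one _ (map_zero _) (map_one _)]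

theorem detHom_val {L : Type*} [Field L] (Q : QuadraticForm L (Fin 6 → L)) (t : O Q) :
    ((detHom Q t : Lˣ) : L) = ((t : GL (Fin 6) L) : Matrix (Fin 6) (Fin 6) L).det :=
  Matrix.GeneralLinearGroup.val_det_apply _

theorem detHom_psi₀ (g : Cfsg.SU 4 F p) : detHom q6 (psi₀ K hF hp4 hRU g) = 1 := by
  refine Units.ext ((emb (F := F) (p := p)).injective ?_)
  rw [detHom_val, show (((psi₀ K hF hp4 hRU g : GL (Fin 6) (ZMod p))) : Matrix (Fin 6) (Fin 6) (ZMod p)) =
    resMat K hF hp4 hRU g from rfl, RingHom.map_det, RingHom.mapMatrix_apply, map_resMat, Units.val_one, map_one,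
    sixMat, ← detHom_val, K.detHom_psi, Units.val_one]

theorem mono_iff (g : Cfsg.SU 4 F p) :
    Mono (fun k : Fin 6 => (Pi.single k 1 : Fin 6 → F)) (K.psi (toSL g)) ↔
      Mono (fun k : Fin 6 => (Pi.single k 1 : Fin 6 → ZMod p)) (psi₀ K hF hp4 hRU g) := by
  have hneg : ∀ x : Fin 6 → ZMod p, ⇑(emb (F := F)) ∘ (-x) = -(⇑(emb (F := F)) ∘ x) := fun x => by
    funext l; simp
  refine forall_congr' fun i => exists_congr fun j => ?_
  dsimp only
  rw [← comp_single (F := F) (p := p) i, ← comp_single (F := F) (p := p) j, ← hneg,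
    app_psi₀ K hF hp4 hRU, (emb (F := F) (p := p)).injective.comp_left.eq_iff,
    (emb (F := F) (p := p)).injective.comp_left.eq_iff]

/-- Pairs of reflections over the prime field with square product are images. -/
theorem exists_pair₀ {v w : Fin 6 → ZMod p} {s : ZMod p} (hs : s ≠ 0) (h : q6 v * q6 w = s * s) :
    ∃ g : Cfsg.SU 4 F p, psi₀ K hF hp4 hRU g = refl q6 v * refl q6 w := by
  obtain ⟨y, hy, hyu⟩ := exists_pair_unitary (v := ⇑(emb (F := F)) ∘ v) (w := ⇑(emb (F := F)) ∘ w)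
    (s := emb s) hF hp4 K.sq K.two ((map_ne_zero_iff _ (emb (F := F) (p := p)).injective).2 hs) (emb_pow s)
    (fun k => emb_pow (v k)) (fun k => emb_pow (w k)) (by rw [q6_comp, q6_comp, ← map_mul, h, map_mul])
  set g₁ : GL (Fin 4) F := K.P * y * K.P⁻¹ with hg₁
  have hconj : K.P⁻¹ * g₁ * K.P = (y : GL (Fin 4) F) := by rw [hg₁]; group
  have hgU : g₁ ∈ Cfsg.GU 4 F p := by
    refine (mem_GU_iff_coords K hF hp4 hRU g₁).2 ?_
    rw [← Units.val_mul, ← Units.val_mul, hconj]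
    exact hyu
  obtain ⟨g, hg⟩ := exists_toSL ⟨hgU, (MonoidHom.normal_ker
    (Matrix.GeneralLinearGroup.det : GL (Fin 4) F →* Fˣ)).conj_mem _ y.2 K.P⟩
  have hpsi : K.psi (toSL g) = refl q6 (⇑(emb (F := F)) ∘ v) * refl q6 (⇑(emb (F := F)) ∘ w) := by
    rw [← hy, Coords.psi, MonoidHom.comp_apply]
    congr 1
    refine Subtype.ext ?_
    show K.P⁻¹ * (toSL g : GL (Fin 4) F) * K.P = y
    rw [hg, hconj]
  refine ⟨g, ext_app fun x => (emb (F := F) (p := p)).injective.comp_left ?_⟩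
  show ⇑(emb (F := F)) ∘ app (psi₀ K hF hp4 hRU g) x = ⇑(emb (F := F)) ∘ app (refl q6 v * refl q6 w) x
  rw [← app_psi₀, hpsi, app_mul, app_mul, refl_comp, refl_comp]

variable (D : CfsgLib.PrimeElusive.SymplType.Data R 4)
include K D hF hp4 hRU

/-- The normaliser is maximal in the special unitary group. -/
theorem maximal_coords :
    Cfsg.Geo.IsMaximalIn (Cfsg.GU 4 F p ⊓ Cfsg.Geo.specialLinear (Fin 4) F)
      (Cfsg.Geo.subgroupNormalizer R ⊓ (Cfsg.GU 4 F p ⊓ Cfsg.Geo.specialLinear (Fin 4) F)) := by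
  classical
  have hp : p.Prime := Fact.out
  have h2 : (2 : ZMod p) ≠ 0 := fun e => K.two (by simpa [map_ofNat] using congrArg (emb (F := F) (p := p)) e)
  have h := CfsgLib.FrameSix.frame_six (F := ZMod p) h2
  set N := Cfsg.Geo.subgroupNormalizer R ⊓ (Cfsg.GU 4 F p ⊓ Cfsg.Geo.specialLinear (Fin 4) F) with hN
  set Ψ := psi₀ K hF hp4 hRU with hΨ
  have hNiff : ∀ g : Cfsg.SU 4 F p, (toSL g : GL (Fin 4) F) ∈ N ↔
      Mono (fun k : Fin 6 => (Pi.single k 1 : Fin 6 → ZMod p)) (Ψ g) := fun g => by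
    rw [← mono_iff, ← K.mem_normalizer_iff D]
    exact ⟨fun hh => hh.1, fun hh => ⟨hh, toSL_mem_GU g, (toSL g).2⟩⟩
  refine ⟨lt_of_le_of_ne inf_le_right fun heq => ?_, fun M hHM hMK => ?_⟩
  · set w : Fin 6 → ZMod p := ![1/2, 1/2, 1/2, 1/2, 0, 0] with hw
    have hqw : q6 w = 1 := by
      rw [q6_apply, Fin.sum_univ_six]; simp [hw]; field_simp; ring
    obtain ⟨g, hg⟩ := exists_pair₀ K hF hp4 hRU (v := Pi.single 4 1) (w := w) one_ne_zero
      (by rw [hqw, q6_apply, Fin.sum_univ_six]; simp)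
    have hgN : (toSL g : GL (Fin 4) F) ∈ N := by
      rw [heq]; exact ⟨toSL_mem_GU g, (toSL g).2⟩
    obtain ⟨j, hj⟩ := (hNiff g).1 hgN 0
    rw [hΨ, hg, app_mul] at hj
    have e0 : ∀ l : Fin 6, app (refl q6 (Pi.single 4 1 : Fin 6 → ZMod p)) (app (refl q6 w) (Pi.single 0 1)) l =
        (![1/2, -1/2, -1/2, -1/2, 0, 0] : Fin 6 → ZMod p) l := by
      intro l
      rw [show (Pi.single 0 1 : Fin 6 → ZMod p) = ![1, 0, 0, 0, 0, 0] by funext k; fin_cases k <;> simp,
        show (Pi.single 4 1 : Fin 6 → ZMod p) = ![0, 0, 0, 0, 1, 0] by funext k; fin_cases k <;> simp]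
      simp only [app_refl, polar_q6, hqw]
      simp only [q6_apply, Fin.sum_univ_six]
      fin_cases l <;> simp [hw, dotProduct, Fin.sum_univ_six] <;> (try field_simp) <;> (try ring)
    have hh2 : (1 / 2 : ZMod p) ≠ 0 := one_div_ne_zero h2
    have a0 : app (refl q6 (Pi.single 4 1 : Fin 6 → ZMod p)) (app (refl q6 w) (Pi.single 0 1)) 0 ≠ 0 := by
      rw [e0]; simpa using hh2
    have a1 : app (refl q6 (Pi.single 4 1 : Fin 6 → ZMod p)) (app (refl q6 w) (Pi.single 0 1)) 1 ≠ 0 := by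
      rw [e0]; simpa using h2
    rcases hj with e | e <;> rw [e] at a0 a1 <;> fin_cases j <;> simp at a0 a1
  by_cases hMH : M ≤ N
  · exact Or.inl (le_antisymm hMH hHM)
  refine Or.inr (le_antisymm hMK ?_)
  obtain ⟨g', hgM, hgN⟩ := SetLike.not_le_iff_exists.1 hMH
  obtain ⟨g, rfl⟩ := exists_toSL (hMK hgM)
  set M' : Subgroup (Cfsg.SU 4 F p) :=
    M.comap ((Cfsg.Geo.specialLinear (Fin 4) F).subtype.comp (toSL (F := F) (p := p))) with hM'
  have hM'mem : ∀ y, y ∈ M' ↔ (toSL y : GL (Fin 4) F) ∈ M := fun y => Iff.rfl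
  set X := M'.map Ψ with hX'
  have hin : ∀ y : Cfsg.SU 4 F p, Mono (fun k : Fin 6 => (Pi.single k 1 : Fin 6 → ZMod p)) (Ψ y) → Ψ y ∈ X :=
    fun y hy => Subgroup.mem_map_of_mem _ ((hM'mem y).2 (hHM ((hNiff y).2 hy)))
  have hX : HasGens (fun k : Fin 6 => (Pi.single k 1 : Fin 6 → ZMod p)) X := by
    refine ⟨fun i j hij => ?_, fun i j k l hij hkl => ?_⟩
    · obtain ⟨y, hy⟩ := exists_pair₀ K hF hp4 hRU (v := (Pi.single i 1 : Fin 6 → ZMod p))
        (w := (Pi.single j 1 : Fin 6 → ZMod p)) one_ne_zero (by rw [h.val, h.val])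
      have := hin y (by rw [hΨ, hy]; exact mono_mul (h.mono_refl_b i) (h.mono_refl_b j))
      rwa [hΨ, hy] at this
    · obtain ⟨y, hy⟩ := exists_pair₀ K hF hp4 hRU (v := Pi.single i 1 - Pi.single j 1)
        (w := Pi.single k 1 - Pi.single l 1) h2 (by
          refine Eq.trans ?_ (rfl : (2 : ZMod p) * 2 = _)
          have e1 : q6 (Pi.single i 1 - Pi.single j 1 : Fin 6 → ZMod p) = 2 * 1 := h.q_diff hij
          have e2 : q6 (Pi.single k 1 - Pi.single l 1 : Fin 6 → ZMod p) = 2 * 1 := h.q_diff hkl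
          rw [e1, e2, mul_one])
      have := hin y (by rw [hΨ, hy]; exact mono_mul (h.mono_swap hij) (h.mono_swap hkl))
      rwa [hΨ, hy] at this
  have hdet : ∀ x ∈ X, detHom q6 x = 1 := by
    rintro x ⟨y, -, rfl⟩
    exact detHom_psi₀ K hF hp4 hRU y
  have hall := CfsgLib.FrameSix.unit_phi h hX hdet p (Nat.card_zmod p)
    (Subgroup.mem_map_of_mem Ψ ((hM'mem g).2 hgM)) fun hm => hgN ((hNiff g).2 hm)
  set T : Set (Cfsg.SU 4 F p) := {y | ∃ v w, q6 v = 1 ∧ q6 w = 1 ∧ Ψ y = refl q6 v * refl q6 w} with hT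
  have hTM : T ⊆ M' := by
    rintro y ⟨v, w, hv, hw, hy⟩
    obtain ⟨m, hm, hme⟩ := phi_pair (hall v hv) (hall w hw) 0
    rw [← hy] at hme
    have hk : Ψ (m⁻¹ * y) = 1 := by rw [map_mul, map_inv, hme, inv_mul_cancel]
    have hkM : m⁻¹ * y ∈ M' := (hM'mem _).2 (hHM ⟨Subgroup.le_normalizer
      (K.psi_ker D (psi_eq_one K hF hp4 hRU hk)), toSL_mem_GU _, (toSL (m⁻¹ * y)).2⟩)
    have := M'.mul_mem hm hkM
    rwa [mul_inv_cancel_left] at this
  have hconj : Group.conjugatesOfSet T ⊆ T := by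
    intro z hz
    obtain ⟨y, ⟨v, w, hv, hw, hy⟩, hyz⟩ := Group.mem_conjugatesOfSet_iff.1 hz
    obtain ⟨k, rfl⟩ := isConj_iff.1 hyz
    refine ⟨app (Ψ k) v, app (Ψ k) w, by rw [Q_app, hv], by rw [Q_app, hw], ?_⟩
    rw [map_mul, map_mul, map_inv, hy, ← refl_conj, ← refl_conj]; group
  have hnc : Subgroup.normalClosure T ≤ M' := (Subgroup.closure_le _).2 (hconj.trans hTM)
  rcases CfsgLib.ClassicalGroups.normal_le_center_or_top hF (by norm_num) (by simp) (Subgroup.normalClosure T)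
    Subgroup.normalClosure_normal with hc | hc
  · exfalso
    obtain ⟨ha, ea⟩ := K.img_a
    obtain ⟨hb, -⟩ := K.img_b
    obtain ⟨a', ha'⟩ := exists_toSL ⟨hRU K.fr.ha, ha⟩
    obtain ⟨b', hb'⟩ := exists_toSL ⟨hRU K.fr.hb, hb⟩
    have hea : Ψ a' = refl q6 (Pi.single 0 1) * refl q6 (Pi.single 1 1) := by
      refine ext_app fun x => (emb (F := F) (p := p)).injective.comp_left ?_
      show ⇑(emb (F := F)) ∘ app (Ψ a') x = ⇑(emb (F := F)) ∘ app (refl q6 _ * refl q6 _) x
      rw [← app_psi₀, show K.psi (toSL a') = (CfsgLib.FrameSix.frame_six K.two).sgn {0, 1} from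
        (congrArg K.psi (show toSL a' = ⟨K.fr.a, ha⟩ from Subtype.ext ha')).trans ea,
        (CfsgLib.FrameSix.frame_six K.two).sgn_pair (by decide), app_mul, app_mul, ← refl_comp, ← refl_comp,
        comp_single, comp_single]
    have hcom := congrArg (fun t : Cfsg.SU 4 F p => (toSL t : GL (Fin 4) F))
      (Subgroup.mem_center_iff.1 (hc (Subgroup.subset_normalClosure ⟨_, _, h.val 0, h.val 1, hea⟩)) b')
    simp only [map_mul, Subgroup.coe_mul, ha', hb'] at hcom
    exact CfsgLib.PrimeElusive.SymplType.Anti.not_commute K.two K.fr.ab hcom.symm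
  · intro x hx
    obtain ⟨y, rfl⟩ := exists_toSL hx
    exact (hM'mem y).1 (hnc (by rw [hc]; trivial))

omit K D hF hp4 hRU [Fact p.Prime] [CharP F p] in
/-- The small maximality statement holds for `p ≡ 3 (mod 4)`. -/
theorem smallMax (hF : Fintype.card F = p ^ 2) (hp : p.Prime) (hp4 : p % 4 = 3) : SmallMax F p := by
  intro R hs hi hRU hc hz
  have : Fact p.Prime := ⟨hp⟩
  have : CharP F p := charP_of_card_eq_prime_pow hF
  have h2 : (2 : F) ≠ 0 := fun e => by
    have := Nat.le_of_dvd two_pos ((CharP.cast_eq_zero_iff F p 2).1 (by exact_mod_cast e))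
    have := hp.two_le
    omega
  have D := CfsgLib.PrimeElusive.SymplType.data_of_symplecticType (by simp) h2 hs hi (by rw [hc]) hz (by norm_num)
  obtain ⟨c, ⟨K⟩⟩ := CfsgLib.FrameSix.exists_coords D
  exact maximal_coords K hF hp4 hRU D

end CfsgLib.CliffSU8
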