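import Cfsg.Agent.Lib.CliffSU8.Half
import Cfsg.Agent.Lib.FrameSix.Max

/-!
Unitary elements in the coordinates of a symplectic-type group of order 64 act on the six frame coordinates
with entries fixed by the field involution, and every pair of reflections with square product arises.
-/

set_option autoImplicit false
set_option linter.unusedSectionVars false

namespace CfsgLib.CliffSU8

open Matrix CfsgLib.Orth CfsgLib.POmega CfsgLib.GeomClasses.Frame
open CfsgLib.FrameSix (q6 q6_apply polar_q6 T T' act A0 B0 C0 D0 skew Coords)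
open CfsgLib.GeomClasses (UnitPow.conj)
open scoped MatrixGroups

variable {F : Type*} [Field F] [Fintype F] {p : ℕ}

theorem adj_smul (t : F) {α β : Type} (M : Matrix α β F) : adj p (t • M) = t ^ p • adj p M := by
  ext x y
  simp [adj, mul_pow]

theorem adj_A0 (hp : Odd p) : adj p (A0 : Matrix (Fin 4) (Fin 4) F) = A0 := by
  ext x y
  fin_cases x <;> fin_cases y <;> simp [adj, A0, hp.neg_pow, hp.pos.ne']

theorem adj_B0 (hp : Odd p) : adj p (B0 : Matrix (Fin 4) (Fin 4) F) = B0 := by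
  ext x y
  fin_cases x <;> fin_cases y <;> simp [adj, B0, hp.pos.ne']

theorem adj_C0 (hp : Odd p) : adj p (C0 : Matrix (Fin 4) (Fin 4) F) = C0 := by
  ext x y
  fin_cases x <;> fin_cases y <;> simp [adj, C0, hp.neg_pow, hp.pos.ne']

theorem adj_D0 (hp : Odd p) : adj p (D0 : Matrix (Fin 4) (Fin 4) F) = D0 := by
  ext x y
  fin_cases x <;> fin_cases y <;> simp [adj, D0, hp.pos.ne']

theorem sq_A0 : (A0 : Matrix (Fin 4) (Fin 4) F) * A0 = 1 := by
  ext x y
  fin_cases x <;> fin_cases y <;> simp [A0, Matrix.mul_apply, Fin.sum_univ_four]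

theorem sq_B0 : (B0 : Matrix (Fin 4) (Fin 4) F) * B0 = 1 := by
  ext x y
  fin_cases x <;> fin_cases y <;> simp [B0, Matrix.mul_apply, Fin.sum_univ_four]

theorem sq_C0 : (C0 : Matrix (Fin 4) (Fin 4) F) * C0 = 1 := by
  ext x y
  fin_cases x <;> fin_cases y <;> simp [C0, Matrix.mul_apply, Fin.sum_univ_four]

theorem sq_D0 : (D0 : Matrix (Fin 4) (Fin 4) F) * D0 = 1 := by
  ext x y
  fin_cases x <;> fin_cases y <;> simp [D0, Matrix.mul_apply, Fin.sum_univ_four]

/-- The field involution negates a square root of minus one. -/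
theorem conj_sqrt_neg_one (hp4 : p % 4 = 3) {c : F} (hc : c * c = -1) : c ^ p = -c := by
  rw [← Nat.div_add_mod p 4, hp4, pow_add, pow_mul, show c ^ 4 = (c * c) * (c * c) by ring, hc, neg_one_mul, neg_neg,
    one_pow, one_mul, pow_succ, pow_two, hc, neg_one_mul]

theorem scalar_of_commute (h2 : (2 : F) ≠ 0) {H : Matrix (Fin 4) (Fin 4) F} (hA : H * A0 = A0 * H)
    (hB : H * B0 = B0 * H) (hC : H * C0 = C0 * H) (hD : H * D0 = D0 * H) : H = H 0 0 • 1 := by
  have z : ∀ x : F, x = -x → x = 0 := fun x e =>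
    (mul_eq_zero.1 (show (2 : F) * x = 0 by linear_combination e)).resolve_left h2
  have z' : ∀ x : F, -x = x → x = 0 := fun x e => z x e.symm
  have ea := fun i j => congrFun (congrFun hA i) j
  have eb := fun i j => congrFun (congrFun hB i) j
  have ec := fun i j => congrFun (congrFun hC i) j
  have ed := fun i j => congrFun (congrFun hD i) j
  simp only [Matrix.mul_apply, Fin.sum_univ_four, A0, B0, C0, D0] at ea eb ec ed
  have b0 := eb 0 2; have b1 := eb 1 3; have d0 := ed 0 1
  have a02 := ea 0 2; have a03 := ea 0 3; have a12 := ea 1 2; have a13 := ea 1 3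
  have a20 := ea 2 0; have a30 := ea 3 0; have a21 := ea 2 1; have a31 := ea 3 1
  have c01 := ec 0 1; have c10 := ec 1 0; have c23 := ec 2 3; have c32 := ec 3 2
  simp at b0 b1 d0 a02 a03 a12 a13 a20 a30 a21 a31 c01 c10 c23 c32
  ext i j
  fin_cases i <;> fin_cases j <;> simp <;>
    first
    | exact z _ a02 | exact z' _ a02 | exact z _ a03 | exact z' _ a03 | exact z _ a12 | exact z' _ a12
    | exact z _ a13 | exact z' _ a13 | exact z _ a20 | exact z' _ a20 | exact z _ a30 | exact z' _ a30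
    | exact z _ a21 | exact z' _ a21 | exact z _ a31 | exact z' _ a31 | exact z _ c01 | exact z' _ c01
    | exact z _ c10 | exact z' _ c10 | exact z _ c23 | exact z' _ c23 | exact z _ c32 | exact z' _ c32
    | exact d0 | exact d0.symm | exact b0 | exact b0.symm
    | linear_combination b1 + d0 | linear_combination b1 - d0 | linear_combination d0 - b1
    | linear_combination -b1 - d0

variable {R : Subgroup (GL (Fin 4) F)} {c : F} (K : Coords R c)

local notation "P₄" => ((Coords.P K : GL (Fin 4) F) : Matrix (Fin 4) (Fin 4) F)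
local notation "P₄'" => (((Coords.P K)⁻¹ : GL (Fin 4) F) : Matrix (Fin 4) (Fin 4) F)

/-- The change of coordinates is a similitude. -/
theorem coords_similitude (hF : Fintype.card F = p ^ 2) (hp4 : p % 4 = 3) (hRU : R ≤ Cfsg.GU 4 F p) :
    ∃ l : F, l ≠ 0 ∧ adj p P₄ * P₄ = l • 1 := by
  have hodd : Odd p := Nat.odd_iff.2 (by omega)
  set H := adj p P₄ * P₄ with hH
  have key : ∀ (r : GL (Fin 4) F), r ∈ R → ∀ (t : F) (M : Matrix (Fin 4) (Fin 4) F),
      (r : Matrix (Fin 4) (Fin 4) F) * P₄ = P₄ * (t • M) → t ^ p * t = 1 → adj p M = M → M * M = 1 →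
        H * M = M * H := by
    intro r hr t M e ht hM hMM
    have e1 : adj p (P₄ * (t • M)) * (P₄ * (t • M)) = H := by
      rw [← e, adj_mul hF, mul_assoc (adj p P₄), ← mul_assoc (adj p (r : Matrix (Fin 4) (Fin 4) F)),
        (mem_GU_iff_adj hF r).1 (hRU hr), Matrix.one_mul]
    rw [adj_mul hF, adj_smul, hM, mul_assoc (t ^ p • M), ← mul_assoc (adj p P₄), ← hH, Matrix.mul_smul,
      Matrix.mul_smul, Matrix.smul_mul, smul_smul, mul_comm t, ht, one_smul] at e1
    calc H * M = M * M * (H * M) := by rw [hMM, Matrix.one_mul]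
      _ = M * H := by rw [mul_assoc M M, e1]
  have hc := conj_sqrt_neg_one hp4 K.sq
  have hnc : (-c) ^ p * -c = 1 := by rw [hodd.neg_pow, hc]; linear_combination -K.sq
  have hH' := scalar_of_commute K.two (key _ K.fr.ha _ _ K.ea hnc (adj_A0 hodd) sq_A0)
    (key _ K.fr.hb _ _ K.eb hnc (adj_B0 hodd) sq_B0)
    (key _ K.fr.hc 1 _ (by rw [one_smul]; exact K.ec) (by simp) (adj_C0 hodd) sq_C0)
    (key _ K.fr.hd 1 _ (by rw [one_smul]; exact K.ed) (by simp) (adj_D0 hodd) sq_D0)
  refine ⟨H 0 0, fun h0 => ?_, hH'⟩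
  rw [h0, zero_smul] at hH'
  have hP : (P₄).det ≠ 0 := ((Coords.P K).isUnit.map Matrix.detMonoidHom).ne_zero
  have e : (adj p P₄).det ≠ 0 := by
    unfold adj
    rw [Matrix.det_transpose, show ((P₄).map (· ^ p)).det = (UnitPow.conj hF) (P₄).det from
      (RingHom.map_det (UnitPow.conj hF).toRingHom P₄).symm]
    exact (map_ne_zero_iff _ (UnitPow.conj hF).injective).2 hP
  exact mul_ne_zero e hP (by rw [← Matrix.det_mul, ← hH, hH', Matrix.det_zero])

/-- Unitarity in the coordinates. -/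
theorem mem_GU_iff_coords (hF : Fintype.card F = p ^ 2) (hp4 : p % 4 = 3) (hRU : R ≤ Cfsg.GU 4 F p)
    (g : GL (Fin 4) F) :
    g ∈ Cfsg.GU 4 F p ↔
      adj p (P₄' * (g : Matrix (Fin 4) (Fin 4) F) * P₄) * (P₄' * (g : Matrix (Fin 4) (Fin 4) F) * P₄) = 1 := by
  obtain ⟨l, hl, hP⟩ := coords_similitude K hF hp4 hRU
  set h := P₄' * (g : Matrix (Fin 4) (Fin 4) F) * P₄ with hh
  have hg : (g : Matrix (Fin 4) (Fin 4) F) * P₄ = P₄ * h := by
    rw [hh, ← mul_assoc, ← mul_assoc, Units.mul_inv, Matrix.one_mul]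
  have e : adj p P₄ * (adj p (g : Matrix (Fin 4) (Fin 4) F) * (g : Matrix (Fin 4) (Fin 4) F)) * P₄ =
      l • (adj p h * h) := by
    rw [mul_assoc, mul_assoc (adj p (g : Matrix (Fin 4) (Fin 4) F)), ← mul_assoc, ← adj_mul hF, hg, adj_mul hF,
      mul_assoc, ← mul_assoc (adj p P₄), hP, Matrix.smul_mul, Matrix.one_mul, Matrix.mul_smul]
  rw [mem_GU_iff_adj hF]
  constructor
  · intro h1
    rw [h1, Matrix.mul_one, hP] at e
    exact (smul_right_injective _ hl e).symm
  · intro h1
    rw [h1, ← hP] at e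
    have e2 := congrArg (fun M => M * P₄') e
    simp only [mul_assoc, Units.mul_inv, Matrix.mul_one] at e2
    have hu : IsUnit (adj p P₄) := by
      have hP2 : IsUnit (adj p P₄ * P₄) := by
        rw [hP, Matrix.isUnit_iff_isUnit_det, Matrix.det_smul, Matrix.det_one, mul_one]
        exact (pow_ne_zero _ hl).isUnit
      exact (Matrix.isUnit_iff_isUnit_det _).2 (isUnit_of_mul_isUnit_left
        (by rw [← Matrix.det_mul]; exact (Matrix.isUnit_iff_isUnit_det _).1 hP2))
    exact hu.mul_left_cancel (e2.trans (Matrix.mul_one _).symm)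

theorem T'_neg (h2 : (2 : F) ≠ 0) : T' (-c) = (2 : F)⁻¹ • (T c)ᵀ := by
  ext x y
  fin_cases x <;> fin_cases y <;> simp [T, T']

theorem T_neg (h2 : (2 : F) ≠ 0) : T (-c) = (2 : F) • (T' c)ᵀ := by
  ext x y
  fin_cases x <;> fin_cases y <;> simp [T, T', h2]

theorem act_orth (hc : c * c = -1) (h2 : (2 : F) ≠ 0) {M : Matrix (Fin 4) (Fin 4) F} (hM : M.det = 1) :
    (act c M)ᵀ * act c M = 1 := by
  ext i j
  have h := polar_q6 (act c M *ᵥ Pi.single i 1) (act c M *ᵥ Pi.single j 1)
  simp only [QuadraticMap.polar, ← Matrix.mulVec_add, FrameSix.q6_act hc h2 hM] at h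
  have h' := polar_q6 (Pi.single i (1 : F)) (Pi.single j 1)
  simp only [QuadraticMap.polar] at h'
  have e := mul_left_cancel₀ h2 (h.symm.trans h')
  rw [Matrix.mulVec_single_one, Matrix.mulVec_single_one] at e
  simpa [Matrix.mul_apply, dotProduct, Matrix.one_apply, Pi.single_apply, eq_comm] using e

/-- A unitary element of determinant one has real image. -/
theorem act_real (hF : Fintype.card F = p ^ 2) (hp4 : p % 4 = 3) (hc : c * c = -1) (h2 : (2 : F) ≠ 0)
    {h : Matrix (Fin 4) (Fin 4) F} (hd : h.det = 1) (hu : adj p h * h = 1) :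
    (act c h).map (· ^ p) = act c h := by
  set σ : F →+* F := (UnitPow.conj hF).toRingHom with hσ
  show (act c h).map σ = act c h
  have hσc : σ c = -c := conj_sqrt_neg_one hp4 hc
  have h1 : (T' c).map σ = T' (σ c) := by
    ext x y
    fin_cases x <;> fin_cases y <;> simp [T', map_ofNat σ 2]
  have h3 : (T c).map σ = T (σ c) := by
    ext x y
    fin_cases x <;> fin_cases y <;> simp [T]
  have h4 : h.map σ = (adj p h)ᵀ := (Matrix.transpose_transpose _).symm
  have h5 : act c (adj p h) = (act c h)ᵀ := by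
    have e1 : act c (adj p h) * act c h = 1 := by rw [← FrameSix.act_mul hc h2, hu, FrameSix.act_one hc h2]
    calc act c (adj p h) = act c (adj p h) * (act c h * (act c h)ᵀ) := by
          rw [mul_eq_one_comm.1 (act_orth hc h2 hd), Matrix.mul_one]
      _ = _ := by rw [← mul_assoc, e1, Matrix.one_mul]
  conv_rhs => rw [← Matrix.transpose_transpose (act c h), ← h5]
  show (T' c * wedge h * T c).map σ = (T' c * wedge (adj p h) * T c)ᵀ
  rw [Matrix.map_mul, Matrix.map_mul, h1, h3, ← wedge_map σ h, h4, hσc, T'_neg h2, T_neg h2, wedge_transpose,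
    Matrix.transpose_mul, Matrix.transpose_mul, Matrix.smul_mul, Matrix.smul_mul, Matrix.mul_smul, smul_smul,
    inv_mul_cancel₀ h2, one_smul, Matrix.mul_assoc]

theorem skew_star_mul (x : Fin 6 → F) :
    skew (CfsgLib.POmega.star x) * skew x = -(pf x) • (1 : Matrix (Fin 4) (Fin 4) F) := by
  ext i j
  fin_cases i <;> fin_cases j <;>
    simp [skew, CfsgLib.POmega.star, pf, Matrix.mul_apply, Fin.sum_univ_four] <;> ring

theorem adj_skew_mul (hp : Odd p) {x : Fin 6 → F} (hx : ∀ k, x k ^ p = CfsgLib.POmega.star x k) :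
    adj p (skew x) * skew x = pf x • 1 := by
  have e : adj p (skew x) = -skew (CfsgLib.POmega.star x) := by
    ext i j
    simp only [adj, Matrix.transpose_apply, Matrix.map_apply, Matrix.neg_apply]
    fin_cases i <;> fin_cases j <;> simp [skew, hp.neg_pow, hx, hp.pos.ne'] <;> simp [CfsgLib.POmega.star]
  rw [e, Matrix.neg_mul, skew_star_mul, neg_smul, neg_neg]

theorem T_conj (hF : Fintype.card F = p ^ 2) (hp4 : p % 4 = 3) (hc : c * c = -1) {v : Fin 6 → F}
    (hv : ∀ k, v k ^ p = v k) (k : Fin 6) :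
    (T c *ᵥ v) k ^ p = CfsgLib.POmega.star (T c *ᵥ v) k := by
  have hσc : (UnitPow.conj hF) c = -c := conj_sqrt_neg_one hp4 hc
  show (UnitPow.conj hF) ((T c *ᵥ v) k) = _
  have hv' : ∀ k, (UnitPow.conj hF) (v k) = v k := hv
  fin_cases k <;>
    simp [-CfsgLib.GeomClasses.UnitPow.conj_apply, T, CfsgLib.POmega.star, Matrix.mulVec, dotProduct, Fin.sum_univ_six,
      hσc, hv'] <;> ring

theorem star_conj (hp : Odd p) {x : Fin 6 → F} (hx : ∀ k, x k ^ p = CfsgLib.POmega.star x k) (k : Fin 6) :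
    CfsgLib.POmega.star x k ^ p = CfsgLib.POmega.star (CfsgLib.POmega.star x) k := by
  rw [CfsgLib.POmega.star_star]
  fin_cases k <;> simp [CfsgLib.POmega.star, hp.neg_pow, hx] <;> simp [CfsgLib.POmega.star]

/-- Every pair of real reflections with square product comes from a unitary element. -/
theorem exists_pair_unitary (hF : Fintype.card F = p ^ 2) (hp4 : p % 4 = 3) (hc : c * c = -1) (h2 : (2 : F) ≠ 0)
    {v w : Fin 6 → F} {s : F} (hs : s ≠ 0) (hsr : s ^ p = s) (hvr : ∀ k, v k ^ p = v k) (hwr : ∀ k, w k ^ p = w k)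
    (h : q6 v * q6 w = s * s) :
    ∃ g : Cfsg.Geo.specialLinear (Fin 4) F, FrameSix.phi hc h2 g = refl q6 v * refl q6 w ∧
      adj p ((g : GL (Fin 4) F) : Matrix (Fin 4) (Fin 4) F) * ((g : GL (Fin 4) F) : Matrix (Fin 4) (Fin 4) F) = 1 := by
  have hodd : Odd p := Nat.odd_iff.2 (by omega)
  set a := T c *ᵥ v with ha
  set b := T c *ᵥ w with hb
  have hv : q6 v ≠ 0 := fun e => hs (by rw [e, zero_mul] at h; exact mul_self_eq_zero.1 h.symm)
  have hw : q6 w ≠ 0 := fun e => hs (by rw [e, mul_zero] at h; exact mul_self_eq_zero.1 h.symm)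
  set M := s⁻¹ • (skew a * skew (CfsgLib.POmega.star b)) with hM
  have hstar : pf (CfsgLib.POmega.star b) = pf b := by
    simp [pf, CfsgLib.POmega.star]; ring
  have hdet : M.det = 1 := by
    rw [hM, Matrix.det_smul, Fintype.card_fin, Matrix.det_mul, FrameSix.det_skew, FrameSix.det_skew, hstar, ha, hb,
      FrameSix.pf_T hc, FrameSix.pf_T hc, ← mul_pow, h]
    field_simp
  have hMu : adj p M * M = 1 := by
    rw [hM, adj_smul, adj_mul hF, smul_mul_smul_comm, mul_assoc (adj p (skew (CfsgLib.POmega.star b))),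
      ← mul_assoc (adj p (skew a)), adj_skew_mul hodd (T_conj hF hp4 hc hvr), Matrix.smul_mul, Matrix.one_mul,
      Matrix.mul_smul, adj_skew_mul hodd (star_conj hodd (T_conj hF hp4 hc hwr)), smul_smul, smul_smul, hstar, FrameSix.pf_T hc, hb,
      FrameSix.pf_T hc, inv_pow, hsr, mul_assoc, h]
    rw [show s⁻¹ * s⁻¹ * (s * s) = 1 by field_simp, one_smul]
  refine ⟨⟨Matrix.GeneralLinearGroup.mkOfDetNeZero M (by rw [hdet]; exact one_ne_zero),
    MonoidHom.mem_ker.2 (Units.ext (by simpa using hdet))⟩, ext_app fun x => ?_, hMu⟩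
  have hinj : Function.Injective fun y : Fin 6 → F => T c *ᵥ y := fun y y' e => by
    have := congrArg (fun u => T' c *ᵥ u) e
    simpa only [Matrix.mulVec_mulVec, FrameSix.T'T hc h2, Matrix.one_mulVec] using this
  have hrefl : ∀ u : Fin 6 → F, q6 u ≠ 0 → ∀ y, q6 u • (T c *ᵥ app (refl q6 u) y) =
      q6 u • (T c *ᵥ y) - (2 * (y ⬝ᵥ u)) • (T c *ᵥ u) := fun u hu y => by
    rw [app_refl, polar_q6, Matrix.mulVec_sub, Matrix.mulVec_smul, smul_sub, smul_smul, mul_inv_cancel_left₀ hu]
  have step1 : wedge (skew (CfsgLib.POmega.star b)) *ᵥ (T c *ᵥ x) =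
      -(q6 w • CfsgLib.POmega.star (T c *ᵥ app (refl q6 w) x)) := by
    have hlin : ∀ (t : F) (p r : Fin 6 → F), CfsgLib.POmega.star (t • p - r) =
        t • CfsgLib.POmega.star p - CfsgLib.POmega.star r := fun t p r => by
      funext k; fin_cases k <;> simp [CfsgLib.POmega.star] <;> ring
    have hlin' : ∀ (t : F) (p : Fin 6 → F), CfsgLib.POmega.star (t • p) = t • CfsgLib.POmega.star p := fun t p => by
      funext k; fin_cases k <;> simp [CfsgLib.POmega.star]
    rw [FrameSix.wedge_skew, hstar, ← hlin' (q6 w), hrefl w hw, hlin, hlin', hb, FrameSix.pf_T hc,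
      dotProduct_comm, FrameSix.dot_star_T hc]
    abel
  have step2 : ∀ y, wedge (skew a) *ᵥ CfsgLib.POmega.star (T c *ᵥ y) = -(q6 v • (T c *ᵥ app (refl q6 v) y)) := by
    intro y
    rw [FrameSix.wedge_skew, CfsgLib.POmega.star_star, hrefl v hv, ha, FrameSix.pf_T hc, FrameSix.dot_star_T hc,
      dotProduct_comm v y]
    abel
  refine hinj ?_
  show T c *ᵥ app (FrameSix.phi hc h2 _) x = _
  rw [FrameSix.app_phi hc h2, FrameSix.T_act hc h2, app_mul]
  show wedge M *ᵥ _ = _
  rw [hM, FrameSix.wedge_smul, wedge_mul, Matrix.smul_mulVec, ← Matrix.mulVec_mulVec, step1, Matrix.mulVec_neg,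
    Matrix.mulVec_smul, step2]
  simp only [smul_neg, neg_neg, smul_smul]
  rw [show s⁻¹ * s⁻¹ * (q6 w * q6 v) = 1 by rw [mul_comm (q6 w), h]; field_simp, one_smul]

end CfsgLib.CliffSU8
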